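import Cfsg.Agent.Known.SUThreeUnip.Calc

/-! # Witt frames in unitary spaces of odd dimension -/

set_option autoImplicit false
set_option linter.style.haveILetI false

namespace Cfsg.Lib.SUThreeUnip

open Cfsg.Lib.Classical Cfsg.Lib.Classical.HermSpace

universe u v

variable {F : Type u} [Field F] [Finite F] {V : Type v} [AddCommGroup V] [Module F V] [FiniteDimensional F V]

/-- Hyperbolic pairs `e i`, `f i` for `i ≤ l` and a vector `d` of norm one. -/
structure WFrame (H : HermSpace F V) (l : ℕ) where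
  e : ℕ → V
  f : ℕ → V
  d : V
  hee : ∀ i j, H.h (e i) (e j) = 0
  hff : ∀ i j, H.h (f i) (f j) = 0
  hef_ne : ∀ {i j : ℕ}, i ≠ j → H.h (e i) (f j) = 0
  hef_self : ∀ {i : ℕ}, i ≤ l → H.h (e i) (f i) = 1
  hed : ∀ i, H.h (e i) d = 0
  hfd : ∀ i, H.h (f i) d = 0
  hdd : H.h d d = 1
  span : ∀ x, x = (∑ i ∈ Finset.range (l + 1), (H.h x (f i) • e i + H.h x (e i) • f i)) + H.h x d • d

variable {H : HermSpace F V} {l : ℕ}

namespace WFrame

variable (P : WFrame H l)

theorem hfe_ne {i j : ℕ} (h : i ≠ j) : H.h (P.f i) (P.e j) = 0 := H.eq_zero_symm (P.hef_ne h.symm)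

theorem hfe_self {i : ℕ} (h : i ≤ l) : H.h (P.f i) (P.e i) = 1 := by
  rw [H.symm, P.hef_self h, map_one]

theorem hde (i : ℕ) : H.h P.d (P.e i) = 0 := H.eq_zero_symm (P.hed i)

theorem hdf (i : ℕ) : H.h P.d (P.f i) = 0 := H.eq_zero_symm (P.hfd i)

theorem e_ne {i : ℕ} (h : i ≤ l) : P.e i ≠ 0 := fun h0 => by
  have := P.hef_self h; rw [h0, H.zero_left] at this; exact zero_ne_one this

theorem h_eq (x y : V) : H.h x y = (∑ i ∈ Finset.range (l + 1),
    (H.h x (P.f i) * H.σ (H.h y (P.e i)) + H.h x (P.e i) * H.σ (H.h y (P.f i)))) +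
      H.h x P.d * H.σ (H.h y P.d) := by
  conv_lhs => rw [P.span x]
  simp [H.add_left, H.sum_left, H.smul_left, ← H.symm]

include P in
theorem finrank_eq : Module.finrank F V = 2 * l + 3 := by
  classical
  let φ : V →ₗ[F] (Fin (l + 1) ⊕ Fin (l + 1)) ⊕ Unit → F :=
    LinearMap.pi (Sum.elim (Sum.elim (fun i : Fin (l + 1) => H.lin (P.f i.val)) fun i => H.lin (P.e i.val))
      fun _ => H.lin P.d)
  have hinj : Function.Injective φ := by
    rw [injective_iff_map_eq_zero]
    intro x hx
    have h1 : ∀ i, i ≤ l → H.h x (P.f i) = 0 := fun i hi => congrFun hx (Sum.inl (Sum.inl ⟨i, by omega⟩))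
    have h2 : ∀ i, i ≤ l → H.h x (P.e i) = 0 := fun i hi => congrFun hx (Sum.inl (Sum.inr ⟨i, by omega⟩))
    have h3 : H.h x P.d = 0 := congrFun hx (Sum.inr ())
    rw [P.span x, h3, zero_smul, add_zero]
    refine Finset.sum_eq_zero fun i hi => ?_
    rw [Finset.mem_range] at hi
    rw [h1 i (by omega), h2 i (by omega), zero_smul, zero_smul, add_zero]
  have hsurj : Function.Surjective φ := by
    intro c
    refine ⟨(∑ i : Fin (l + 1), (c (Sum.inl (Sum.inl i)) • P.e i + c (Sum.inl (Sum.inr i)) • P.f i)) +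
      c (Sum.inr ()) • P.d, ?_⟩
    funext j
    rcases j with (j | j) | j
    · change H.h _ (P.f j) = _
      rw [H.add_left, H.sum_left, Finset.sum_eq_single j, H.add_left, H.smul_left, H.smul_left, H.smul_left,
        P.hef_self (by omega), P.hff, P.hdf]
      · ring
      · intro i _ hi
        rw [H.add_left, H.smul_left, H.smul_left, P.hef_ne (fun e => hi (Fin.ext e)), P.hff]; ring
      · simp
    · change H.h _ (P.e j) = _
      rw [H.add_left, H.sum_left, Finset.sum_eq_single j, H.add_left, H.smul_left, H.smul_left, H.smul_left,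
        P.hfe_self (by omega), P.hee, P.hde]
      · ring
      · intro i _ hi
        rw [H.add_left, H.smul_left, H.smul_left, P.hfe_ne (fun e => hi (Fin.ext e)), P.hee]; ring
      · simp
    · change H.h _ P.d = _
      rw [H.add_left, H.sum_left, Finset.sum_eq_zero, H.smul_left, P.hdd]
      · simp
      · intro i _
        rw [H.add_left, H.smul_left, H.smul_left, P.hed, P.hfd]; ring
  rw [LinearEquiv.finrank_eq (LinearEquiv.ofBijective φ ⟨hinj, hsurj⟩), Module.finrank_fintype_fun_eq_card]
  simp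
  omega

/-- The linear map with prescribed values on the frame. -/
def mapLin (E E' : ℕ → V) (D : V) : V →ₗ[F] V :=
  (∑ i ∈ Finset.range (l + 1), ((H.lin (P.f i)).smulRight (E i) + (H.lin (P.e i)).smulRight (E' i))) +
    (H.lin P.d).smulRight D

theorem mapLin_apply (E E' : ℕ → V) (D x : V) : P.mapLin E E' D x =
    (∑ i ∈ Finset.range (l + 1), (H.h x (P.f i) • E i + H.h x (P.e i) • E' i)) + H.h x P.d • D := by
  simp [mapLin, HermSpace.lin_apply]

theorem mapLin_e {i : ℕ} (hi : i ≤ l) (E E' : ℕ → V) (D : V) : P.mapLin E E' D (P.e i) = E i := by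
  rw [P.mapLin_apply, P.hed, zero_smul, add_zero, Finset.sum_eq_single i]
  · rw [P.hef_self hi, P.hee, one_smul, zero_smul, add_zero]
  · intro j _ hj
    rw [P.hef_ne (Ne.symm hj), P.hee, zero_smul, zero_smul, add_zero]
  · intro h; simp at h; omega

theorem mapLin_f {i : ℕ} (hi : i ≤ l) (E E' : ℕ → V) (D : V) : P.mapLin E E' D (P.f i) = E' i := by
  rw [P.mapLin_apply, P.hfd, zero_smul, add_zero, Finset.sum_eq_single i]
  · rw [P.hfe_self hi, P.hff, one_smul, zero_smul, zero_add]
  · intro j _ hj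
    rw [P.hfe_ne (Ne.symm hj), P.hff, zero_smul, zero_smul, add_zero]
  · intro h; simp at h; omega

theorem mapLin_d (E E' : ℕ → V) (D : V) : P.mapLin E E' D P.d = D := by
  rw [P.mapLin_apply, P.hdd, one_smul, Finset.sum_eq_zero, zero_add]
  intro j _
  rw [P.hdf, P.hde, zero_smul, zero_smul, add_zero]

/-- The cyclic shift of the hyperbolic pairs, corrected at `d`. -/
theorem exists_shift : ∃ (M : H.SIsom) (z : F), z * H.σ z = 1 ∧
    (∀ i, i < l → M.1.1 (P.e i) = P.e (i + 1)) ∧ M.1.1 (P.e l) = P.f 0 ∧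
    (∀ i, i < l → M.1.1 (P.f i) = P.f (i + 1)) ∧ M.1.1 (P.f l) = P.e 0 ∧ M.1.1 P.d = z • P.d := by
  classical
  set E : ℕ → V := fun i => if i < l then P.e (i + 1) else P.f 0 with hE
  set E' : ℕ → V := fun i => if i < l then P.f (i + 1) else P.e 0 with hE'
  have hEE : ∀ i j, H.h (E i) (E j) = 0 := fun i j => by
    simp only [hE]; split_ifs <;>
      simp [P.hee, P.hff, P.hef_ne (show i + 1 ≠ 0 by omega), P.hfe_ne (show 0 ≠ j + 1 by omega)]
  have hE'E' : ∀ i j, H.h (E' i) (E' j) = 0 := fun i j => by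
    simp only [hE']; split_ifs <;>
      simp [P.hee, P.hff, P.hfe_ne (show i + 1 ≠ 0 by omega), P.hef_ne (show 0 ≠ j + 1 by omega)]
  have hEE' : ∀ i j, i ≤ l → j ≤ l → H.h (E i) (E' j) = if i = j then 1 else 0 := fun i j hi hj => by
    simp only [hE, hE']
    rcases eq_or_ne i j with rfl | hij
    · rw [if_pos rfl]; split_ifs with h
      · exact P.hef_self (by omega)
      · exact P.hfe_self (by omega)
    · rw [if_neg hij]; split_ifs with h h'
      · exact P.hef_ne (by omega)
      · exact P.hee _ _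
      · exact P.hff _ _
      · omega
  have hEd : ∀ i, H.h (E i) P.d = 0 := fun i => by simp only [hE]; split_ifs <;> simp [P.hed, P.hfd]
  have hE'd : ∀ i, H.h (E' i) P.d = 0 := fun i => by simp only [hE']; split_ifs <;> simp [P.hed, P.hfd]
  have hpres : ∀ x y, H.h (P.mapLin E E' P.d x) (P.mapLin E E' P.d y) = H.h x y := by
    intro x y
    rw [P.h_eq x y, P.mapLin_apply, P.mapLin_apply]
    simp only [H.add_left, H.add_right, H.smul_left, H.smul_right, H.sum_left, H.sum_right, hEd, hE'd,
      H.eq_zero_symm (hEd _), H.eq_zero_symm (hE'd _), P.hdd, mul_zero, add_zero, zero_add,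
      Finset.sum_const_zero, mul_one]
    congr 1
    · refine Finset.sum_congr rfl fun i hi => ?_
      rw [Finset.mem_range] at hi
      simp only [hEE, hE'E', mul_zero, add_zero, zero_add]
      rw [Finset.sum_eq_single i, Finset.sum_eq_single i]
      · rw [hEE' i i (by omega) (by omega), if_pos rfl,
          show H.h (E' i) (E i) = 1 by rw [H.symm, hEE' i i (by omega) (by omega), if_pos rfl, map_one]]
        ring
      · intro j hj hji
        rw [Finset.mem_range] at hj
        rw [show H.h (E' i) (E j) = 0 by rw [H.symm, hEE' j i (by omega) (by omega), if_neg hji, map_zero]]; ring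
      · simp; omega
      · intro j hj hji
        rw [Finset.mem_range] at hj
        rw [hEE' i j (by omega) (by omega), if_neg (Ne.symm hji)]; ring
      · simp; omega
  have hinj : Function.Injective (P.mapLin E E' P.d) := by
    rw [injective_iff_map_eq_zero]
    exact fun x hx => H.nondeg x fun y => by rw [← hpres, hx, H.zero_right]
  let M0 : H.Isom := ⟨LinearEquiv.ofInjectiveEndo (P.mapLin E E' P.d) hinj, fun x y => by
    rw [LinearEquiv.coe_ofInjectiveEndo]; exact hpres x y⟩
  have hM0 : ∀ x, M0.1 x = P.mapLin E E' P.d x := fun x => by simp [M0]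
  let z : (normUnits H.σ).ker := ⟨(H.detHom M0)⁻¹, inv_mem (H.det_mem_norm_ker M0)⟩
  have hmem : M0 * H.qrefl P.hdd z ∈ H.SIsom := by
    rw [HermSpace.SIsom, MonoidHom.mem_ker, map_mul, H.det_qrefl, mul_inv_cancel]
  refine ⟨⟨_, hmem⟩, z.1, congrArg Units.val (MonoidHom.mem_ker.mp z.2), ?_, ?_, ?_, ?_, ?_⟩
  · intro i hi
    change M0.1 ((H.qrefl P.hdd z).1 (P.e i)) = _
    rw [H.qrefl_orth P.hdd z (P.hed i), hM0, P.mapLin_e hi.le]
    simp [hE, hi]
  · change M0.1 ((H.qrefl P.hdd z).1 (P.e l)) = _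
    rw [H.qrefl_orth P.hdd z (P.hed l), hM0, P.mapLin_e le_rfl]
    simp [hE]
  · intro i hi
    change M0.1 ((H.qrefl P.hdd z).1 (P.f i)) = _
    rw [H.qrefl_orth P.hdd z (P.hfd i), hM0, P.mapLin_f hi.le]
    simp [hE', hi]
  · change M0.1 ((H.qrefl P.hdd z).1 (P.f l)) = _
    rw [H.qrefl_orth P.hdd z (P.hfd l), hM0, P.mapLin_f le_rfl]
    simp [hE']
  · change M0.1 ((H.qrefl P.hdd z).1 P.d) = _
    rw [H.qrefl_self P.hdd z, map_smul, hM0, P.mapLin_d]

end WFrame

/-- The Witt form on coordinates. -/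
def wittSpace (H : HermSpace F V) (l : ℕ) : HermSpace F ((Fin (l + 1) ⊕ Fin (l + 1)) ⊕ Unit → F) where
  σ := H.σ
  h x y := (∑ i, (x (Sum.inl (Sum.inl i)) * H.σ (y (Sum.inl (Sum.inr i))) +
    x (Sum.inl (Sum.inr i)) * H.σ (y (Sum.inl (Sum.inl i))))) + x (Sum.inr ()) * H.σ (y (Sum.inr ()))
  conj := H.conj
  add_left x y z := by
    simp only [Pi.add_apply, add_mul, Finset.sum_add_distrib]; ring
  smul_left c x z := by
    simp only [Pi.smul_apply, smul_eq_mul, Finset.sum_add_distrib, mul_add, Finset.mul_sum, mul_assoc]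
  symm x y := by
    simp only [map_add, map_sum, map_mul, H.conj.invol]
    congr 1
    · exact Finset.sum_congr rfl fun i _ => by ring
    · ring
  nondeg v hv := by
    classical
    funext j
    rcases j with (j | j) | j
    · have := hv (Pi.single (Sum.inl (Sum.inr j)) 1)
      simpa [Pi.single_apply, H.conj.eq_zero] using this
    · have := hv (Pi.single (Sum.inl (Sum.inl j)) 1)
      simpa [Pi.single_apply, H.conj.eq_zero] using this
    · have := hv (Pi.single (Sum.inr ()) 1)
      simpa [Pi.single_apply, H.conj.eq_zero] using this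

/-- Witt frames exist in every odd dimension. -/
theorem exists_wframe (H : HermSpace F V) {l : ℕ} (hd : Module.finrank F V = 2 * l + 3) :
    Nonempty (WFrame H l) := by
  classical
  obtain ⟨φ, hφ⟩ := (wittSpace H l).exists_isometry H rfl (by
    rw [hd, Module.finrank_fintype_fun_eq_card]; simp; omega)
  let eV : ℕ → V := fun i => if h : i < l + 1 then φ (Pi.single (Sum.inl (Sum.inl ⟨i, h⟩)) 1) else 0
  let fV : ℕ → V := fun i => if h : i < l + 1 then φ (Pi.single (Sum.inl (Sum.inr ⟨i, h⟩)) 1) else 0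
  refine ⟨⟨eV, fV, φ (Pi.single (Sum.inr ()) 1), ?_, ?_, ?_, ?_, ?_, ?_, ?_, ?_⟩⟩
  · intro i j; simp only [eV]; split_ifs <;> first
      | simp [H.zero_left, H.zero_right]
      | (rw [hφ]; simp [wittSpace, Pi.single_apply])
  · intro i j; simp only [fV]; split_ifs <;> first
      | simp [H.zero_left, H.zero_right]
      | (rw [hφ]; simp [wittSpace, Pi.single_apply])
  · intro i j hij; simp only [eV, fV]; split_ifs <;> first
      | simp [H.zero_left, H.zero_right]
      | (rw [hφ]; simp [wittSpace, Pi.single_apply, Fin.ext_iff, hij, Ne.symm hij]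
         refine Finset.sum_eq_zero fun x _ => ?_
         split_ifs <;> first | rfl | omega)
  · intro i hi
    simp only [eV, fV, show i < l + 1 by omega, dif_pos]
    rw [hφ]; simp [wittSpace, Pi.single_apply]
  · intro i; simp only [eV]; split_ifs <;> first
      | simp [H.zero_left]
      | (rw [hφ]; simp [wittSpace, Pi.single_apply])
  · intro i; simp only [fV]; split_ifs <;> first
      | simp [H.zero_left]
      | (rw [hφ]; simp [wittSpace, Pi.single_apply])
  · rw [hφ]; simp [wittSpace, Pi.single_apply]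
  · intro x
    obtain ⟨c, rfl⟩ := φ.surjective x
    apply φ.symm.injective
    rw [φ.symm_apply_apply, map_add, map_sum, map_smul, φ.symm_apply_apply, Finset.sum_range]
    simp only [eV, fV, Fin.is_lt, dif_pos, map_add, map_smul, φ.symm_apply_apply, Fin.eta, hφ]
    funext j
    rcases j with (j | j) | j <;> simp [wittSpace, Pi.single_apply, Finset.sum_apply]

end Cfsg.Lib.SUThreeUnip
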