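import Cfsg.Agent.Known.SUThreeUnip.Frame

/-! # A regular unipotent element and its conjugates -/

set_option autoImplicit false
set_option linter.style.haveILetI false

namespace Cfsg.Lib.SUThreeUnip

open Cfsg.Lib.Classical Cfsg.Lib.Classical.HermSpace

universe u v

variable {F : Type u} [Field F] [Finite F] {V : Type v} [AddCommGroup V] [Module F V] [FiniteDimensional F V]
variable {H : HermSpace F V} {l : ℕ}

/-- The data of a regular unipotent element and of a shift. -/
structure Data (H : HermSpace F V) (l : ℕ) where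
  P : WFrame H l
  th : F
  hth : th + H.σ th = 1
  M : H.SIsom
  z : F
  hz : z * H.σ z = 1
  M_e : ∀ i, i < l → M.1.1 (P.e i) = P.e (i + 1)
  M_e_last : M.1.1 (P.e l) = P.f 0
  M_f : ∀ i, i < l → M.1.1 (P.f i) = P.f (i + 1)
  M_f_last : M.1.1 (P.f l) = P.e 0
  M_d : M.1.1 P.d = z • P.d

theorem exists_data (H : HermSpace F V) {l : ℕ} (hd : Module.finrank F V = 2 * l + 3) {th : F}
    (hth : th + H.σ th = 1) : ∃ D : Data H l, D.th = th := by
  obtain ⟨P⟩ := exists_wframe H hd
  obtain ⟨M, z, hz, h1, h2, h3, h4, h5⟩ := P.exists_shift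
  exact ⟨⟨P, th, hth, M, z, hz, h1, h2, h3, h4, h5⟩, rfl⟩

namespace Data

variable (D : Data H l)

/-- A short simple root element of the Levi subgroup. -/
noncomputable def aEl (k : ℕ) : H.SIsom :=
  sgEl H (b := D.P.e k) (w := -D.P.f (k + 1)) (a := 0) (D.P.hee k k)
    (by rw [H.neg_left, D.P.hfe_ne (Nat.succ_ne_self k), neg_zero])
    (by simp [H.neg_left, H.neg_right, D.P.hff])

theorem aEl_apply (k : ℕ) (x : V) :
    (D.aEl k).1.1 x = x - H.h x (D.P.e k) • D.P.f (k + 1) + H.h x (D.P.f (k + 1)) • D.P.e k := by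
  rw [aEl, sgEl_apply, H.neg_right]; module

theorem aEl_e_succ {k : ℕ} (hk : k + 1 ≤ l) : (D.aEl k).1.1 (D.P.e (k + 1)) = D.P.e (k + 1) + D.P.e k := by
  simp [aEl_apply, D.P.hee, D.P.hef_self hk]

theorem aEl_e {k i : ℕ} (h : i ≠ k + 1) : (D.aEl k).1.1 (D.P.e i) = D.P.e i := by
  simp [aEl_apply, D.P.hee, D.P.hef_ne h]

theorem aEl_f_self {k : ℕ} (hk : k ≤ l) : (D.aEl k).1.1 (D.P.f k) = D.P.f k - D.P.f (k + 1) := by
  simp [aEl_apply, D.P.hff, D.P.hfe_self hk]

theorem aEl_f {k i : ℕ} (h : i ≠ k) : (D.aEl k).1.1 (D.P.f i) = D.P.f i := by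
  simp [aEl_apply, D.P.hff, D.P.hfe_ne h]

theorem aEl_d (k : ℕ) : (D.aEl k).1.1 D.P.d = D.P.d := by
  simp [aEl_apply, D.P.hde, D.P.hdf]

/-- The product of the first `k` short simple root elements. -/
noncomputable def lev : ℕ → H.SIsom
  | 0 => 1
  | k + 1 => D.aEl k * lev k

theorem lev_e_high {k : ℕ} : ∀ {i : ℕ}, k < i → (D.lev k).1.1 (D.P.e i) = D.P.e i := by
  induction k with
  | zero => exact fun _ => rfl
  | succ k ih => exact fun h => by rw [lev, H.smul_mul_apply, ih (by omega), D.aEl_e (by omega)]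

theorem lev_e_zero (k : ℕ) : (D.lev k).1.1 (D.P.e 0) = D.P.e 0 := by
  induction k with
  | zero => rfl
  | succ k ih => rw [lev, H.smul_mul_apply, ih, D.aEl_e (by omega)]

theorem lev_d (k : ℕ) : (D.lev k).1.1 D.P.d = D.P.d := by
  induction k with
  | zero => rfl
  | succ k ih => rw [lev, H.smul_mul_apply, ih, D.aEl_d]

theorem lev_e_succ {k : ℕ} (hk : k ≤ l) : ∀ {i : ℕ}, i < k →
    (D.lev k).1.1 (D.P.e (i + 1)) = D.P.e (i + 1) + D.P.e i := by
  induction k with
  | zero => intro i h; omega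
  | succ k ih =>
    intro i h
    rw [lev, H.smul_mul_apply]
    rcases Nat.lt_or_ge i k with h' | h'
    · rw [ih (by omega) h', map_add, D.aEl_e (by omega), D.aEl_e (by omega)]
    · obtain rfl : i = k := by omega
      rw [D.lev_e_high (by omega), D.aEl_e_succ hk]

theorem lev_f_high {k : ℕ} : ∀ {i : ℕ}, k ≤ i → (D.lev k).1.1 (D.P.f i) = D.P.f i := by
  induction k with
  | zero => exact fun _ => rfl
  | succ k ih => exact fun h => by rw [lev, H.smul_mul_apply, ih (by omega), D.aEl_f (by omega)]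

theorem lev_f {k : ℕ} (hk : k ≤ l) : ∀ {i : ℕ}, i < k →
    (D.lev k).1.1 (D.P.f i + D.P.f (i + 1)) = D.P.f i := by
  induction k with
  | zero => intro i h; omega
  | succ k ih =>
    intro i h
    rw [lev, H.smul_mul_apply]
    rcases Nat.lt_or_ge i k with h' | h'
    · rw [ih (by omega) h', D.aEl_f (by omega)]
    · obtain rfl : i = k := by omega
      rw [map_add, D.lev_f_high le_rfl, D.lev_f_high (by omega), map_add, D.aEl_f_self (by omega),
        D.aEl_f (by omega), sub_add_cancel]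

theorem short_trace : -D.th + H.σ (-D.th) = -H.h (-D.P.d) (-D.P.d) := by
  rw [H.neg_left, H.neg_right, D.P.hdd, map_neg, neg_neg, ← neg_add, D.hth]

theorem short_perp : H.h (-D.P.d) (D.P.e l) = 0 := by rw [H.neg_left, D.P.hde, neg_zero]

/-- The short root element. -/
noncomputable def sEl : H.SIsom := sgEl H (D.P.hee l l) D.short_perp D.short_trace

theorem sEl_apply (x : V) :
    D.sEl.1.1 x = x - H.h x (D.P.e l) • D.P.d + (-D.th * H.h x (D.P.e l) + H.h x D.P.d) • D.P.e l := by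
  rw [sEl, sgEl_apply, H.neg_right]; module

/-- A regular unipotent element. -/
noncomputable def U : H.SIsom := D.sEl * D.lev l

theorem U_e_zero : D.U.1.1 (D.P.e 0) = D.P.e 0 := by
  rw [U, H.smul_mul_apply, D.lev_e_zero, D.sEl_apply]; simp [D.P.hee, D.P.hed]

theorem U_e_succ {i : ℕ} (h : i < l) : D.U.1.1 (D.P.e (i + 1)) = D.P.e (i + 1) + D.P.e i := by
  rw [U, H.smul_mul_apply, D.lev_e_succ le_rfl h, D.sEl_apply]; simp [H.add_left, D.P.hee, D.P.hed]

theorem U_f {i : ℕ} (h : i < l) : D.U.1.1 (D.P.f i + D.P.f (i + 1)) = D.P.f i := by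
  rw [U, H.smul_mul_apply, D.lev_f le_rfl h, D.sEl_apply]
  simp [D.P.hfd, D.P.hfe_ne (show i ≠ l by omega)]

theorem U_f_last : D.U.1.1 (D.P.f l) = D.P.f l - D.P.d - D.th • D.P.e l := by
  rw [U, H.smul_mul_apply, D.lev_f_high le_rfl, D.sEl_apply]
  simp [D.P.hfd, D.P.hfe_self le_rfl]; abel

theorem U_d : D.U.1.1 D.P.d = D.P.d + D.P.e l := by
  rw [U, H.smul_mul_apply, D.lev_d, D.sEl_apply]
  simp [D.P.hde, D.P.hdd]

theorem inv_apply {g : H.SIsom} {x y : V} (h : g.1.1 x = y) : (g⁻¹).1.1 y = x := by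
  rw [← h]; exact H.inv_apply_self g.1 x

theorem U_inv_e_zero : (D.U⁻¹).1.1 (D.P.e 0) = D.P.e 0 := inv_apply D.U_e_zero

theorem U_inv_f {i : ℕ} (h : i < l) : (D.U⁻¹).1.1 (D.P.f i) = D.P.f i + D.P.f (i + 1) :=
  inv_apply (D.U_f h)

/-- The third conjugate. -/
noncomputable def W : H.SIsom := D.M * D.U * D.M⁻¹

theorem W_apply {x y z : V} (hx : D.M.1.1 x = y) (hz : D.M.1.1 (D.U.1.1 x) = z) : D.W.1.1 y = z := by
  rw [W, H.smul_mul_apply, H.smul_mul_apply, inv_apply hx, hz]

theorem W_e_zero : D.W.1.1 (D.P.e 0) = D.P.e 0 - D.z • D.P.d - D.th • D.P.f 0 :=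
  D.W_apply D.M_f_last (by rw [U_f_last, map_sub, map_sub, map_smul, D.M_f_last, D.M_d, D.M_e_last])

theorem W_e_one (hl : 1 ≤ l) : D.W.1.1 (D.P.e 1) = D.P.e 1 :=
  D.W_apply (D.M_e 0 hl) (by rw [U_e_zero, D.M_e 0 hl])

theorem W_e_two {i : ℕ} (h : i + 2 ≤ l) : D.W.1.1 (D.P.e (i + 2)) = D.P.e (i + 2) + D.P.e (i + 1) :=
  D.W_apply (D.M_e (i + 1) (by omega))
    (by rw [D.U_e_succ (by omega), map_add, D.M_e (i + 1) (by omega), D.M_e i (by omega)])

theorem W_f_zero (hl : 1 ≤ l) : D.W.1.1 (D.P.f 0) = D.P.f 0 + D.P.e l := by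
  obtain ⟨j, rfl⟩ : ∃ j, l = j + 1 := ⟨l - 1, by omega⟩
  exact D.W_apply D.M_e_last
    (by rw [D.U_e_succ (show j < j + 1 by omega), map_add, D.M_e_last, D.M_e j (by omega)])

theorem W_f_zero_small (hl : l = 0) : D.W.1.1 (D.P.f 0) = D.P.f 0 := by
  subst hl
  exact D.W_apply D.M_e_last (by rw [D.U_e_zero, D.M_e_last])

theorem W_d : D.W.1.1 D.P.d = D.P.d + H.σ D.z • D.P.f 0 := by
  refine D.W_apply (x := H.σ D.z • D.P.d) ?_ ?_
  · rw [map_smul, D.M_d, smul_smul, mul_comm, D.hz, one_smul]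
  · rw [map_smul, map_smul, D.U_d, map_add, D.M_d, D.M_e_last, smul_add, smul_smul, mul_comm (H.σ D.z),
      D.hz, one_smul]

/-- Vectors in the order of the flag of `U`. -/
noncomputable def chain (r : ℕ) : V :=
  if r ≤ l then D.P.e r else if r = l + 1 then D.P.d else if r ≤ 2 * l + 2 then D.P.f (2 * l + 2 - r) else 0

/-- The span of the first vectors of the chain. -/
noncomputable def flag (r : ℕ) : Submodule F V := Submodule.span F (D.chain '' {i | i < r})

theorem chain_mem {r s : ℕ} (h : r < s) : D.chain r ∈ D.flag s := Submodule.subset_span ⟨r, h, rfl⟩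

theorem flag_zero : D.flag 0 = ⊥ := by simp [flag]

theorem flag_mono {r s : ℕ} (h : r ≤ s) : D.flag r ≤ D.flag s :=
  Submodule.span_mono (Set.image_mono fun _ hi => lt_of_lt_of_le hi h)

/-- `U - 1` as a linear map. -/
noncomputable def nil : V →ₗ[F] V := D.U.1.1.toLinearMap - LinearMap.id

theorem nil_apply (x : V) : D.nil x = D.U.1.1 x - x := rfl

theorem nil_chain : ∀ r, r < 2 * l + 2 →
    ∃ c : F, c ≠ 0 ∧ D.nil (D.chain (r + 1)) - c • D.chain r ∈ D.flag r := by
  intro r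
  induction r using Nat.strong_induction_on with
  | _ r ih =>
    intro hr
    rcases Nat.lt_or_ge r l with h | h
    · refine ⟨1, one_ne_zero, ?_⟩
      simp [nil_apply, chain, show r + 1 ≤ l by omega, h.le, D.U_e_succ h]
    rcases Nat.eq_or_lt_of_le h with rfl | h'
    · refine ⟨1, one_ne_zero, ?_⟩
      simp [nil_apply, chain, U_d]
    rcases Nat.eq_or_lt_of_le (show l + 1 ≤ r by omega) with rfl | h''
    · refine ⟨-1, by simp, ?_⟩
      rw [show D.chain (l + 1 + 1) = D.P.f l by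
        simp only [chain, show ¬ l + 1 + 1 ≤ l by omega, if_false, show ¬ l + 1 + 1 = l + 1 by omega,
          show l + 1 + 1 ≤ 2 * l + 2 by omega, if_true]
        congr 1; omega,
        show D.chain (l + 1) = D.P.d by simp [chain], nil_apply, U_f_last,
        show D.P.f l - D.P.d - D.th • D.P.e l - D.P.f l - (-1 : F) • D.P.d = (-D.th) • D.P.e l by module]
      exact Submodule.smul_mem _ _ (by
        have := D.chain_mem (show l < l + 1 by omega); simpa [chain] using this)
    obtain ⟨i, hi⟩ : ∃ i, i = 2 * l + 2 - (r + 1) := ⟨_, rfl⟩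
    have e1 : D.chain (r + 1) = D.P.f i := by
      simp only [chain, show ¬ r + 1 ≤ l by omega, if_false, show ¬ r + 1 = l + 1 by omega,
        show r + 1 ≤ 2 * l + 2 by omega, if_true, hi]
    have e2 : D.chain r = D.P.f (i + 1) := by
      simp only [chain, show ¬ r ≤ l by omega, if_false, show ¬ r = l + 1 by omega,
        show r ≤ 2 * l + 2 by omega, if_true]
      congr 1; omega
    refine ⟨-1, by simp, ?_⟩
    have hu : D.nil (D.P.f i) = -D.U.1.1 (D.P.f (i + 1)) := by
      have := D.U_f (show i < l by omega)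
      rw [map_add] at this
      rw [nil_apply]
      conv_lhs => arg 2; rw [← this]
      abel
    rw [e1, e2, hu, neg_one_smul, sub_neg_eq_add, neg_add_eq_sub, ← neg_sub, ← nil_apply, ← e2]
    refine Submodule.neg_mem _ ?_
    obtain ⟨r', rfl⟩ : ∃ r', r = r' + 1 := ⟨r - 1, by omega⟩
    obtain ⟨c, -, hc⟩ := ih r' (by omega) (by omega)
    have := add_mem (D.flag_mono (by omega : r' ≤ r' + 1) hc)
      (Submodule.smul_mem _ c (D.chain_mem (show r' < r' + 1 by omega)))
    rwa [sub_add_cancel] at this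

theorem nil_flag {r : ℕ} (hr : r ≤ 2 * l + 2) {x : V} (hx : x ∈ D.flag (r + 1)) : D.nil x ∈ D.flag r := by
  suffices D.flag (r + 1) ≤ (D.flag r).comap D.nil from this hx
  rw [flag, Submodule.span_le]
  rintro _ ⟨i, hi, rfl⟩
  simp only [Set.mem_setOf_eq] at hi
  rw [SetLike.mem_coe, Submodule.mem_comap]
  rcases i with _ | i
  · rw [show D.nil (D.chain 0) = 0 by simp [nil_apply, chain, U_e_zero]]; exact zero_mem _
  · obtain ⟨c, -, hc⟩ := D.nil_chain i (by omega)
    have := add_mem (D.flag_mono (by omega : i ≤ r) hc)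
      (Submodule.smul_mem _ c (D.chain_mem (show i < r by omega)))
    rwa [sub_add_cancel] at this

theorem nil_pow_flag : ∀ k, k ≤ 2 * l + 3 → ∀ x ∈ D.flag k, (D.nil ^ k) x = 0
  | 0, _, x, hx => by rw [flag_zero, Submodule.mem_bot] at hx; simp [hx]
  | k + 1, hk, x, hx => by
    rw [pow_succ, Module.End.mul_apply]
    exact nil_pow_flag k (by omega) _ (D.nil_flag (by omega) hx)

theorem flag_top : D.flag (2 * l + 3) = ⊤ := by
  rw [eq_top_iff]
  intro x _
  rw [D.P.span x]
  refine add_mem (Submodule.sum_mem _ fun i hi => ?_) (Submodule.smul_mem _ _ ?_)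
  · rw [Finset.mem_range] at hi
    refine add_mem (Submodule.smul_mem _ _ ?_) (Submodule.smul_mem _ _ ?_)
    · have := D.chain_mem (show i < 2 * l + 3 by omega)
      simpa [chain, show i ≤ l by omega] using this
    · have := D.chain_mem (show 2 * l + 2 - i < 2 * l + 3 by omega)
      simpa [chain, show ¬ 2 * l + 2 - i ≤ l by omega, show ¬ 2 * l + 2 - i = l + 1 by omega,
        show 2 * l + 2 - (2 * l + 2 - i) = i by omega] using this
  · have := D.chain_mem (show l + 1 < 2 * l + 3 by omega)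
    simpa [chain] using this

theorem nil_pow_top : D.nil ^ (2 * l + 3) = 0 :=
  LinearMap.ext fun x => D.nil_pow_flag _ le_rfl x (by rw [D.flag_top]; exact Submodule.mem_top)

theorem nil_pow_chain : ∀ r, r ≤ 2 * l + 2 → ∃ c : F, c ≠ 0 ∧ (D.nil ^ r) (D.chain r) = c • D.chain 0
  | 0, _ => ⟨1, one_ne_zero, by simp⟩
  | r + 1, hr => by
    obtain ⟨c, hc, hmem⟩ := D.nil_chain r (by omega)
    obtain ⟨d, hd, hp⟩ := nil_pow_chain r (by omega)
    refine ⟨c * d, mul_ne_zero hc hd, ?_⟩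
    rw [pow_succ, Module.End.mul_apply,
      show D.nil (D.chain (r + 1)) = (D.nil (D.chain (r + 1)) - c • D.chain r) + c • D.chain r by abel,
      map_add, map_smul, D.nil_pow_flag r (by omega) _ hmem, hp, zero_add, smul_smul]

theorem nil_pow_ne : D.nil ^ (2 * l + 2) ≠ 0 := fun h => by
  obtain ⟨c, hc, e1⟩ := D.nil_pow_chain (2 * l + 2) le_rfl
  rw [h, LinearMap.zero_apply] at e1
  rcases smul_eq_zero.1 e1.symm with h' | h'
  · exact hc h'
  · exact D.P.e_ne (Nat.zero_le l) (by simpa [chain] using h')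

end Data

end Cfsg.Lib.SUThreeUnip
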