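import Cfsg.Agent.Classical.Unitary.Maximal
import Cfsg.Agent.Classical.Unitary.OrthSub

/-! # Membership calculus for Siegel elements of unitary groups -/

set_option autoImplicit false
set_option linter.style.haveILetI false

namespace Cfsg.Lib.SUThreeUnip

open Cfsg.Lib.Classical Cfsg.Lib.Classical.HermSpace

universe u v

variable {F : Type u} [Field F] [Finite F] {V : Type v} [AddCommGroup V] [Module F V] [FiniteDimensional F V]
variable {H : HermSpace F V}

/-- A Siegel element in the special unitary group. -/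
noncomputable def sgEl (H : HermSpace F V) {b w : V} {a : F} (hb : H.h b b = 0) (hw : H.h w b = 0)
    (ha : a + H.σ a = -H.h w w) : H.SIsom :=
  ⟨H.siegel hb hw ha, H.siegel_mem_SIsom hb hw ha⟩

theorem sgEl_apply {b w : V} {a : F} (hb : H.h b b = 0) (hw : H.h w b = 0) (ha : a + H.σ a = -H.h w w) (x : V) :
    (sgEl H hb hw ha).1.1 x = x + H.h x b • w + (a * H.h x b - H.h x w) • b :=
  H.siegel_apply hb hw ha x

theorem sgEl_congr {b w b' w' : V} {a a' : F} (hb : H.h b b = 0) (hw : H.h w b = 0)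
    (ha : a + H.σ a = -H.h w w) (hb' : H.h b' b' = 0) (hw' : H.h w' b' = 0) (ha' : a' + H.σ a' = -H.h w' w')
    (e1 : b = b') (e2 : w = w') (e3 : a = a') : sgEl H hb hw ha = sgEl H hb' hw' ha' := by
  subst e1 e2 e3; rfl

theorem sgEl_conj (g : H.SIsom) {b w : V} {a : F} (hb : H.h b b = 0) (hw : H.h w b = 0)
    (ha : a + H.σ a = -H.h w w) :
    g * sgEl H hb hw ha * g⁻¹ = sgEl H (b := g.1.1 b) (w := g.1.1 w) (a := a) (by rw [H.map_form, hb])
      (by rw [H.map_form, hw]) (by rw [H.map_form, ha]) :=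
  Subtype.ext (H.siegel_conj g.1 hb hw ha)

/-- The Siegel element lies in `K`. -/
def SG (K : Subgroup H.SIsom) (b w : V) (a : F) : Prop :=
  ∃ (hb : H.h b b = 0) (hw : H.h w b = 0) (ha : a + H.σ a = -H.h w w), sgEl H hb hw ha ∈ K

variable {K : Subgroup H.SIsom} {b b' w w' : V} {a a' : F}

theorem SG.congr (h : SG K b w a) (e1 : b = b') (e2 : w = w') (e3 : a = a') : SG K b' w' a' := by
  subst e1 e2 e3; exact h

theorem SG.iso (h : SG K b w a) : H.h b b = 0 := h.1

theorem SG.perp (h : SG K b w a) : H.h w b = 0 := h.2.1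

theorem SG.trace (h : SG K b w a) : a + H.σ a = -H.h w w := h.2.2.1

theorem SG.conj (h : SG K b w a) {g : H.SIsom} (hg : g ∈ K) (e1 : g.1.1 b = b') (e2 : g.1.1 w = w') :
    SG K b' w' a := by
  obtain ⟨h1, h2, h3, h4⟩ := h
  subst e1 e2
  refine ⟨by rw [H.map_form, h1], by rw [H.map_form, h2], by rw [H.map_form, h3], ?_⟩
  rw [← sgEl_conj g h1 h2 h3]
  exact mul_mem (mul_mem hg h4) (inv_mem hg)

theorem SG.mul (h : SG K b w a) (h' : SG K b w' a') : SG K b (w + w') (a + a' - H.h w' w) := by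
  obtain ⟨h1, h2, h3, h4⟩ := h
  obtain ⟨h1', h2', h3', h4'⟩ := h'
  have hs : H.h (w + w') b = 0 := by rw [H.add_left, h2, h2', add_zero]
  have hb : a + a' - H.h w' w + H.σ (a + a' - H.h w' w) = -H.h (w + w') (w + w') := by
    rw [map_sub, map_add, ← H.symm, H.add_left, H.add_right, H.add_right]
    linear_combination h3 + h3'
  refine ⟨h1, hs, hb, ?_⟩
  have : sgEl H h1 hs hb = sgEl H h1 h2 h3 * sgEl H h1 h2' h3' :=
    Subtype.ext (H.siegel_mul h1 h2 h2' h3 h3' hs hb rfl).symm
  rw [this]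
  exact mul_mem h4 h4'

theorem SG.zero (hb : H.h b b = 0) : SG K b 0 0 := by
  refine ⟨hb, H.zero_left b, by rw [map_zero, H.zero_left, add_zero, neg_zero], ?_⟩
  convert one_mem K using 1
  refine H.sisom_ext fun x => ?_
  rw [sgEl_apply, H.zero_right]
  simp

theorem SG.inv (h : SG K b w a) : SG K b (-w) (H.σ a) := by
  obtain ⟨h1, h2, h3, h4⟩ := h
  have h2' : H.h (-w) b = 0 := by rw [H.neg_left, h2, neg_zero]
  have h3' : H.σ a + H.σ (H.σ a) = -H.h (-w) (-w) := by
    rw [H.conj.invol, add_comm, h3, H.neg_left, H.neg_right, neg_neg]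
  refine ⟨h1, h2', h3', ?_⟩
  have e : sgEl H h1 h2' h3' * sgEl H h1 h2 h3 = 1 := by
    refine H.sisom_ext fun x => ?_
    have h2r : H.h b w = 0 := H.eq_zero_symm h2
    rw [H.smul_mul_apply, sgEl_apply, sgEl_apply]
    simp only [H.add_left, H.smul_left, H.neg_left, H.neg_right, h1, h2, h2r, mul_zero, add_zero, zero_add]
    have h3'' : H.σ a = -H.h w w - a := by linear_combination h3
    rw [h3'']
    show _ = x
    module
  rw [eq_inv_of_mul_eq_one_left e]
  exact inv_mem h4

theorem SG.smul_iff_vec (μ : F) (hw : H.h w b = 0) (hb : H.h b b = 0) (h : SG K (μ • b) w a) :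
    SG K b (H.σ μ • w) (μ * H.σ μ * a) := by
  obtain ⟨h1, h2, h3, h4⟩ := h
  refine ⟨hb, by rw [H.smul_left, hw, mul_zero], ?_, ?_⟩
  · rw [map_mul, H.conj.norm_mem, ← mul_add, h3, H.smul_left, H.smul_right, H.conj.invol]; ring
  · convert h4 using 1
    refine H.sisom_ext fun x => ?_
    rw [sgEl_apply, sgEl_apply]
    simp only [H.smul_right, H.conj.invol]
    module

theorem SG.symm0 (h : SG K b w 0) : SG K w (-b) 0 := by
  obtain ⟨h1, h2, h3, h4⟩ := h
  have hw : H.h w w = 0 := by simpa using h3.symm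
  refine ⟨hw, by rw [H.neg_left, H.eq_zero_symm h2, neg_zero], by
    simp [H.neg_left, H.neg_right, h1], ?_⟩
  convert h4 using 1
  refine H.sisom_ext fun x => ?_
  rw [sgEl_apply, sgEl_apply, H.neg_right]
  module

/-- Moving a multiple of the centre into the parameter. -/
theorem SG.shift (μ : F) (h : SG K b (w + μ • b) a) : SG K b w (a + μ - H.σ μ) := by
  obtain ⟨h1, h2, h3, h4⟩ := h
  have hwb : H.h w b = 0 := by rwa [H.add_left, H.smul_left, h1, mul_zero, add_zero] at h2
  refine ⟨h1, hwb, ?_, ?_⟩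
  · rw [H.add_left, H.add_right, H.add_right, H.smul_left, H.smul_left, H.smul_right, H.smul_right,
      hwb, H.eq_zero_symm hwb, h1] at h3
    simp only [mul_zero, add_zero] at h3
    rw [map_sub, map_add, H.conj.invol]
    linear_combination h3
  · convert h4 using 1
    refine H.sisom_ext fun x => ?_
    rw [sgEl_apply, sgEl_apply]
    simp only [H.add_right, H.smul_right]
    module

theorem SG.unshift (μ : F) (h : SG K b w a) : SG K b (w + μ • b) (a - μ + H.σ μ) := by
  have h' : SG K b ((w + μ • b) + (-μ) • b) a := h.congr rfl (by module) rfl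
  exact (h'.shift (-μ)).congr rfl rfl (by rw [map_neg]; ring)

/-- The difference of a conjugate. -/
theorem SG.diff (h : SG K b w a) {g : H.SIsom} (hg : g ∈ K) (hgb : g.1.1 b = b) :
    SG K b (g.1.1 w - w) (H.h w (g.1.1 w - w)) := by
  refine ((h.conj hg hgb rfl).mul h.inv).congr rfl (sub_eq_add_neg _ _).symm ?_
  rw [H.neg_left, H.sub_right]
  linear_combination h.trace

/-- Splitting the centre, the parameter changing along the second centre. -/
theorem SG.split' {δ : F} (h : SG K (b + b') (w + δ • b') a) (hb : SG K b w a) (hb' : H.h b' b' = 0)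
    (hbb : H.h b b' = 0) (hwb : H.h w b' = 0) : SG K b' (w + δ • b' + (-H.σ a - H.σ δ) • b) a := by
  obtain ⟨h1, h2, h3, h4⟩ := h
  obtain ⟨g1, g2, g3, g4⟩ := hb
  have k2 : H.h (w + δ • b' + (-H.σ a - H.σ δ) • b) b' = 0 := by
    rw [H.add_left, H.add_left, H.smul_left, H.smul_left, hwb, hbb, hb', mul_zero, mul_zero, add_zero, add_zero]
  have k3 : a + H.σ a = -H.h (w + δ • b' + (-H.σ a - H.σ δ) • b) (w + δ • b' + (-H.σ a - H.σ δ) • b) := by
    simp only [H.add_left, H.add_right, H.smul_left, H.smul_right, g1, g2, H.eq_zero_symm g2, hwb,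
      H.eq_zero_symm hwb, hb', hbb, H.eq_zero_symm hbb, mul_zero, add_zero, g3]
  refine ⟨hb', k2, k3, ?_⟩
  have key : sgEl H h1 h2 h3 = sgEl H g1 g2 g3 * sgEl H hb' k2 k3 := by
    refine H.sisom_ext fun x => ?_
    rw [H.smul_mul_apply, sgEl_apply, sgEl_apply, sgEl_apply]
    simp only [H.add_left, H.add_right, H.smul_left, H.smul_right, g1, g2, H.eq_zero_symm g2, hbb, hb',
      H.eq_zero_symm hbb, hwb, H.eq_zero_symm hwb, map_neg, map_sub, H.conj.invol, mul_zero, add_zero, zero_add]
    have g3' : H.σ a = -H.h w w - a := by linear_combination g3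
    rw [g3']
    module
  rw [key] at h4
  exact (Subgroup.mul_mem_cancel_left _ g4).1 h4

/-- Splitting the centre. -/
theorem SG.split (h : SG K (b + b') w a) (hb : SG K b w a) (hb' : H.h b' b' = 0) (hbb : H.h b b' = 0)
    (hwb : H.h w b' = 0) : SG K b' (w + (-H.σ a) • b) a := by
  have h' : SG K (b + b') (w + (0 : F) • b') a := h.congr rfl (by rw [zero_smul, add_zero]) rfl
  exact (h'.split' hb hb' hbb hwb).congr rfl (by rw [map_zero, sub_zero, zero_smul, add_zero]) rfl

theorem centre_of_SG (hb : H.h b b = 0) (h : ∀ t : F, t + H.σ t = 0 → SG K b 0 t) : b ∈ H.uCentres K := by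
  refine ⟨hb, fun c hc => ?_⟩
  obtain ⟨h1, h2, h3, h4⟩ := h c hc
  convert h4 using 1
  refine H.sisom_ext fun x => ?_
  rw [sgEl_apply, H.zero_right]
  change (H.uT hb hc).1 x = _
  rw [H.uT_apply]
  simp

theorem SG_of_centre (h : b ∈ H.uCentres K) {t : F} (ht : t + H.σ t = 0) : SG K b 0 t := by
  obtain ⟨hb, hK⟩ := h
  refine ⟨hb, H.zero_left b, by rw [ht, H.zero_left, neg_zero], ?_⟩
  convert hK t ht using 1
  refine H.sisom_ext fun x => ?_
  rw [sgEl_apply, H.zero_right]
  change _ = (H.uT hb ht).1 x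
  rw [H.uT_apply]
  simp

/-- With a full root group at `b` the parameter is irrelevant. -/
theorem SG.any (h : SG K b w a) (hb : b ∈ H.uCentres K) (ha : a' + H.σ a' = -H.h w w) : SG K b w a' := by
  have ht : a' - a + H.σ (a' - a) = 0 := by rw [map_sub]; linear_combination ha - h.trace
  exact (h.mul (SG_of_centre hb ht)).congr rfl (add_zero w) (by rw [H.zero_left]; ring)

/-- All Siegel elements at an isotropic centre and a further centre give everything. -/
theorem eq_top_of_parabolic (hd : 4 ≤ Module.finrank F V ∨ (Module.finrank F V = 3 ∧ 3 ≤ H.q))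
    {e f : V} (hee : H.h e e = 0) (hfe : H.h f e = 1) (hf : f ∈ H.uCentres K)
    (hN : ∀ (w : V) (a : F), H.h w e = 0 → a + H.σ a = -H.h w w → SG K e w a) : K = ⊤ := by
  have hff : H.h f f = 0 := uCentres_iso hf
  have hef : H.h e f = 1 := by rw [H.symm, hfe, map_one]
  obtain ⟨t0, ht0, ht0'⟩ := H.conj.exists_skew
  have key : ∀ v, H.h v v = 0 → H.h v e ≠ 0 → v ∈ H.uCentres K := by
    intro v hv hve
    obtain ⟨lam, hlam⟩ : ∃ lam, H.h v e = lam := ⟨_, rfl⟩
    have hl : lam ≠ 0 := hlam ▸ hve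
    obtain ⟨mu, hmu⟩ : ∃ mu, H.h (lam⁻¹ • v - f) f = mu := ⟨_, rfl⟩
    -- `lam⁻¹ • v = f + w + mu • e`
    set w := lam⁻¹ • v - f - mu • e with hw
    have hwe : H.h w e = 0 := by
      rw [hw, H.sub_left, H.sub_left, H.smul_left, H.smul_left, hlam, hfe, hee, inv_mul_cancel₀ hl]; ring
    have hwf : H.h w f = 0 := by
      rw [hw, H.sub_left, hmu, H.smul_left, hef, mul_one, sub_self]
    have hlv : lam⁻¹ • v = f + w + mu • e := by rw [hw]; module
    have ha : mu + H.σ mu = -H.h w w := by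
      have h0 : H.h (lam⁻¹ • v) (lam⁻¹ • v) = 0 := by rw [H.smul_left, H.smul_right, hv, mul_zero, mul_zero]
      rw [hlv] at h0
      simp only [H.add_left, H.add_right, H.smul_left, H.smul_right, hff, hee, hfe, hef, hwe, hwf,
        H.eq_zero_symm hwe, H.eq_zero_symm hwf] at h0
      linear_combination h0
    obtain ⟨h1, h2, h3, h4⟩ := hN w mu hwe ha
    have := uCentres_smul (uCentres_map hf h4) lam
    rw [sgEl_apply, hfe, H.eq_zero_symm hwf, one_smul, mul_one, sub_zero, ← hlv, smul_smul,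
      mul_inv_cancel₀ hl, one_smul] at this
    exact this
  refine HermSpace.eq_top_of_uCentres hd fun v hv => ?_
  by_cases hve : H.h v e = 0
  swap
  · exact key v hv hve
  have key2 : ∀ v, H.h v v = 0 → H.h v f ≠ 0 → v ∈ H.uCentres K := by
    intro v hv hvf
    by_cases h0 : H.h v e = 0
    swap
    · exact key v hv h0
    have hg := hf.2 t0 ht0'
    have h1 := key ((H.uT hff ht0').1 v) (by rw [H.map_form, hv]) (by
      rw [H.uT_apply, H.add_left, H.smul_left, h0, hfe, zero_add, mul_one]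
      exact mul_ne_zero ht0 hvf)
    have h2 := uCentres_map h1 (inv_mem hg)
    convert h2 using 1
    exact (H.inv_apply_self _ v).symm
  by_cases hvf : H.h v f = 0
  swap
  · exact key2 v hv hvf
  rcases eq_or_ne v 0 with rfl | hv0
  · exact H.uCentres_zero K
  obtain ⟨x, hx⟩ := H.exists_partner hv0
  set w := x - H.h x f • e - H.h x e • f with hw
  have hwe : H.h w e = 0 := by rw [hw]; simp [H.sub_left, H.smul_left, hee, hfe]
  have hvw : H.h v w = 1 := by
    rw [hw, H.sub_right, H.sub_right, H.smul_right, H.smul_right, hx, hve, hvf]; ring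
  obtain ⟨θ, hθ⟩ := H.conj.exists_trace_one
  have ha : -θ * H.h w w + H.σ (-θ * H.h w w) = -H.h w w := by
    rw [map_mul, map_neg, H.self_fixed]; linear_combination (-H.h w w) * hθ
  obtain ⟨h1, h2, h3, h4⟩ := hN w _ hwe ha
  have h5 := key2 ((sgEl H h1 h2 h3).1.1 v) (by rw [H.map_form, hv]) (by
    rw [sgEl_apply]
    simp [H.add_left, H.smul_left, H.neg_left, hve, hvf, hvw, hef])
  have h6 := uCentres_map h5 (inv_mem h4)
  convert h6 using 1
  exact (H.inv_apply_self _ v).symm

end Cfsg.Lib.SUThreeUnip
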