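import Cfsg.Agent.Known.SUThreeUnip.Basic

/-! # Generation in dimension at least five -/

set_option autoImplicit false
set_option linter.style.haveILetI false

namespace Cfsg.Lib.SUThreeUnip

open Cfsg.Lib.Classical Cfsg.Lib.Classical.HermSpace

universe u v

variable {F : Type u} [Field F] [Finite F] {V : Type v} [AddCommGroup V] [Module F V] [FiniteDimensional F V]
variable {H : HermSpace F V} {l : ℕ}

namespace Data

variable (D : Data H l) {K : Subgroup H.SIsom}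

theorem th_ne : D.th ≠ 0 := fun h => by
  have := D.hth; rw [h, map_zero, add_zero] at this; exact zero_ne_one this

theorem sth_ne : H.σ D.th ≠ 0 := (map_ne_zero _).mpr D.th_ne

/-- The parameters of the root group of `e 1 + e 0`. -/
def SS (K : Subgroup H.SIsom) (c : F) : Prop := SG K (D.P.e 1) (c • D.P.e 0) 0

variable {D}

theorem SS.zero : D.SS K 0 := (SG.zero (D.P.hee 1 1)).congr rfl (zero_smul F _).symm rfl

theorem SS.add {c c' : F} (h : D.SS K c) (h' : D.SS K c') : D.SS K (c + c') :=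
  (h.mul h').congr rfl (by rw [add_smul]) (by simp [H.smul_left, H.smul_right, D.P.hee])

theorem SS.neg {c : F} (h : D.SS K c) : D.SS K (-c) := h.inv.congr rfl (by rw [neg_smul]) (map_zero _)

/-- The additive subgroup of parameters. -/
def ssGroup (D : Data H l) (K : Subgroup H.SIsom) : AddSubgroup F where
  carrier := {c | D.SS K c}
  add_mem' := SS.add
  zero_mem' := SS.zero
  neg_mem' := SS.neg

variable (D)
variable (hl : 1 ≤ l) (hU : D.U ∈ K) (hW : D.W ∈ K)

include hl hW in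
theorem first_diff {c : F} (h : D.SS K c) :
    ∃ a, SG K (D.P.e 1) (c • (-(D.z • D.P.d) - D.th • D.P.f 0)) a := by
  have h1 := h.diff hW (D.W_e_one hl)
  rw [map_smul, W_e_zero] at h1
  exact ⟨_, h1.congr rfl (by module) rfl⟩

include hl hW in
theorem second_diff {c : F} (h : D.SS K c) :
    SG K (D.P.e 1) (c • (-D.P.f 0 - D.th • D.P.e l)) 0 := by
  obtain ⟨a, h1⟩ := D.first_diff hl hW h
  have hx : D.W.1.1 (c • (-(D.z • D.P.d) - D.th • D.P.f 0)) - c • (-(D.z • D.P.d) - D.th • D.P.f 0) =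
      c • (-D.P.f 0 - D.th • D.P.e l) := by
    rw [map_smul, map_sub, map_neg, map_smul, map_smul, W_d, D.W_f_zero hl, ← smul_sub]
    congr 1
    rw [smul_add D.z, smul_smul, D.hz, one_smul]
    module
  refine (h1.diff hW (D.W_e_one hl)).congr rfl hx ?_
  rw [hx]
  simp [H.smul_left, H.smul_right, H.sub_left, H.sub_right, H.neg_left, H.neg_right, D.P.hdf, D.P.hde,
    D.P.hff, D.P.hfe_ne (show 0 ≠ l by omega)]

include hl hW in
theorem step_diff {c : F} (h : D.SS K c) : ∀ j, 1 ≤ j → j + 1 ≤ l →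
    SG K (D.P.e 1) (c • (-D.P.e (j + 1) - D.th • D.P.e j)) 0 := by
  suffices ∀ i j, j + i + 1 = l → 1 ≤ j → SG K (D.P.e 1) (c • (-D.P.e (j + 1) - D.th • D.P.e j)) 0 from
    fun j hj hj' => this (l - 1 - j) j (by omega) hj
  intro i
  induction i with
  | zero =>
    intro j hjl hj
    obtain ⟨k, rfl⟩ : ∃ k, j = k + 1 := ⟨j - 1, by omega⟩
    have h2 := D.second_diff hl hW h
    have hx : D.W.1.1 (c • (-D.P.f 0 - D.th • D.P.e l)) - c • (-D.P.f 0 - D.th • D.P.e l) =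
        c • (-D.P.e (k + 1 + 1) - D.th • D.P.e (k + 1)) := by
      obtain rfl : l = k + 2 := by omega
      rw [map_smul, map_sub, map_neg, map_smul, D.W_f_zero hl, D.W_e_two (i := k) le_rfl, ← smul_sub]
      congr 1
      module
    refine (h2.diff hW (D.W_e_one hl)).congr rfl hx ?_
    rw [hx]
    simp [H.smul_left, H.smul_right, H.sub_left, H.sub_right, H.neg_left, H.neg_right, D.P.hee,
      D.P.hfe_ne (show 0 ≠ k + 1 + 1 by omega), D.P.hfe_ne (show 0 ≠ k + 1 by omega)]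
  | succ i ih =>
    intro j hjl hj
    obtain ⟨k, rfl⟩ : ∃ k, j = k + 1 := ⟨j - 1, by omega⟩
    have h2 := ih (k + 2) (by omega) (by omega)
    have hx : D.W.1.1 (c • (-D.P.e (k + 2 + 1) - D.th • D.P.e (k + 2))) -
        c • (-D.P.e (k + 2 + 1) - D.th • D.P.e (k + 2)) = c • (-D.P.e (k + 1 + 1) - D.th • D.P.e (k + 1)) := by
      rw [map_smul, map_sub, map_neg, map_smul, D.W_e_two (i := k) (by omega),
        D.W_e_two (i := k + 1) (by omega), ← smul_sub]
      congr 1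
      module
    refine (h2.diff hW (D.W_e_one hl)).congr rfl hx ?_
    rw [hx]
    simp [H.smul_left, H.smul_right, H.sub_left, H.sub_right, H.neg_left, H.neg_right, D.P.hee]

/-- The last vector before `e 1` in the descent. -/
noncomputable def zv : V := if l = 1 then D.P.f 0 else D.P.e 2

include hl hW in
theorem last_diff {c : F} (h : D.SS K c) : SG K (D.P.e 1) (c • (-D.zv - D.th • D.P.e 1)) 0 := by
  rcases eq_or_ne l 1 with h1 | h1
  · have := D.second_diff hl hW h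
    simpa [zv, h1] using this
  · have := D.step_diff hl hW h 1 le_rfl (by omega)
    simpa [zv, h1] using this

theorem zv_perp : H.h D.zv (D.P.e 1) = 0 := by
  unfold zv; split_ifs
  · exact D.P.hfe_ne (by omega)
  · exact D.P.hee _ _

theorem zv_iso : H.h D.zv D.zv = 0 := by
  unfold zv; split_ifs
  · exact D.P.hff _ _
  · exact D.P.hee _ _

include hl hW in
theorem skew_self {c : F} (h : D.SS K c) : SG K (D.P.e 1) 0 (-c + H.σ c) := by
  have h1 := D.last_diff hl hW h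
  have hx : D.W.1.1 (c • (-D.zv - D.th • D.P.e 1)) - c • (-D.zv - D.th • D.P.e 1) = 0 + (-c) • D.P.e 1 := by
    rw [map_smul, map_sub, map_neg, map_smul, D.W_e_one hl, ← smul_sub, zero_add]
    have : D.W.1.1 D.zv = D.zv + D.P.e 1 := by
      unfold zv; split_ifs with h'
      · subst h'; exact D.W_f_zero le_rfl
      · exact D.W_e_two (i := 0) (by omega)
    rw [this]; module
  refine ((h1.diff hW (D.W_e_one hl)).congr rfl hx rfl).shift (-c) |>.congr rfl rfl ?_
  rw [hx, zero_add]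
  simp [H.smul_left, H.smul_right, H.sub_left, H.neg_left, H.neg_right, D.P.hee, D.zv_perp]

include hl hW in
theorem exists_G (h1 : D.SS K 1) : ∃ g ∈ K, g.1.1 (D.P.e 0) = D.P.e 0 + H.σ D.th • D.P.e 1 ∧
    g.1.1 (D.P.e 1) = D.P.e 1 ∧ g.1.1 (D.P.e 2) = D.P.e 2 ∧ g.1.1 D.P.d = D.P.d + H.σ D.z • D.P.e 1 := by
  obtain ⟨p1, p2, p3, p4⟩ := h1.conj hW (D.W_e_one hl)
    (show D.W.1.1 ((1 : F) • D.P.e 0) = D.P.e 0 - D.z • D.P.d - D.th • D.P.f 0 by rw [one_smul, W_e_zero])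
  refine ⟨_, p4, ?_, ?_, ?_, ?_⟩ <;> rw [sgEl_apply] <;>
    simp [H.sub_right, H.smul_right, D.P.hee, D.P.hed, D.P.hde, D.P.hdd, D.P.hdf,
      D.P.hef_self (Nat.zero_le l), D.P.hef_ne (show 1 ≠ 0 by omega), D.P.hef_ne (show 2 ≠ 0 by omega)]

include hl hW in
theorem skew_th (h1 : D.SS K 1) {c : F} (h : D.SS K c) : SG K (D.P.e 1) 0 (c * D.th - H.σ (c * D.th)) := by
  obtain ⟨g, hg, g0, g1, -, -⟩ := D.exists_G hl hW h1
  have h2 : SG K (D.P.e 1) (0 + (c * H.σ D.th) • D.P.e 1) 0 := by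
    refine ((h.conj hg g1 (by rw [map_smul, g0])).mul h.inv).congr rfl ?_ ?_
    · rw [smul_add, smul_smul, zero_add]; abel
    · simp [H.smul_left, H.smul_right, H.add_right, H.neg_left, D.P.hee]
  refine ((h2.shift (c * H.σ D.th)).mul (D.skew_self hl hW h)).inv.congr rfl (by simp) ?_
  rw [H.zero_left]
  simp only [map_add, map_sub, map_neg, map_mul, map_zero, H.conj.invol]
  have h3 : H.σ D.th = 1 - D.th := by linear_combination D.hth
  rw [h3]; ring

include hl hW in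
/-- The descent without correction. -/
theorem zv_mem (h1 : D.SS K 1) {c : F} (h : D.SS K c) : SG K (D.P.e 1) (c • D.zv) 0 := by
  have h2 : SG K (D.P.e 1) (-(c • D.zv) + (-(c * D.th)) • D.P.e 1) 0 :=
    (D.last_diff hl hW h).congr rfl (by module) rfl
  refine ((h2.shift (-(c * D.th))).mul (D.skew_th hl hW h1 h)).inv.congr rfl (by module) ?_
  rw [H.zero_left, map_neg]
  simp

include hl hU hW in
/-- In rank at least three the descent comes back conjugated. -/
theorem back (hl2 : 2 ≤ l) (h1 : D.SS K 1) {c : F} (h : SG K (D.P.e 1) (c • D.P.e 2) 0)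
    (ht : SG K (D.P.e 1) 0 (c - H.σ c)) :
    D.SS K (H.σ c) ∧ SG K (D.P.e 0) (c • D.P.e 2) 0 := by
  have _ := h1
  have hu1 : D.U.1.1 (D.P.e 1) = D.P.e 1 + D.P.e 0 := D.U_e_succ (i := 0) (by omega)
  have hu2 : D.U.1.1 (D.P.e 2) = D.P.e 2 + D.P.e 1 := D.U_e_succ (i := 1) (by omega)
  have hA : SG K (D.P.e 1 + D.P.e 0) (c • D.P.e 2 + c • D.P.e 1) 0 :=
    h.conj hU hu1 (by rw [map_smul, hu2, smul_add])
  have hB : SG K (D.P.e 1) (c • D.P.e 2 + c • D.P.e 1) 0 :=
    ((h.unshift c).mul ht).congr rfl (add_zero _) (by rw [H.zero_left]; ring)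
  have hZ : SG K (D.P.e 0) (c • D.P.e 2 + c • D.P.e 1) 0 :=
    (hA.split hB (D.P.hee 0 0) (D.P.hee 1 0) (by simp [H.add_left, H.smul_left, D.P.hee])).congr rfl
      (by simp) rfl
  have hx : D.U.1.1 (c • D.P.e 2 + c • D.P.e 1) - (c • D.P.e 2 + c • D.P.e 1) = c • D.P.e 1 + c • D.P.e 0 := by
    rw [map_add, map_smul, map_smul, hu2, hu1]; module
  have hZ1 : SG K (D.P.e 0) (c • D.P.e 1 + c • D.P.e 0) 0 :=
    (hZ.diff hU D.U_e_zero).congr rfl hx (by
      rw [hx]; simp [H.add_left, H.add_right, H.smul_left, H.smul_right, D.P.hee])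
  have hx2 : D.U.1.1 (c • D.P.e 1 + c • D.P.e 0) - (c • D.P.e 1 + c • D.P.e 0) = c • D.P.e 0 := by
    rw [map_add, map_smul, map_smul, hu1, U_e_zero]; module
  have hZ2 : SG K (D.P.e 0) (c • D.P.e 0) 0 :=
    (hZ1.diff hU D.U_e_zero).congr rfl hx2 (by
      rw [hx2]; simp [H.add_left, H.smul_left, H.smul_right, D.P.hee])
  have hP10 : SG K (D.P.e 0) (c • D.P.e 1) 0 :=
    (hZ1.mul hZ2.inv).congr rfl (by module)
      (by simp [H.add_right, H.neg_left, H.smul_left, H.smul_right, D.P.hee])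
  refine ⟨?_, (hZ.mul hP10.inv).congr rfl (by module)
    (by simp [H.add_right, H.neg_left, H.smul_left, H.smul_right, D.P.hee])⟩
  have h3 := (SG.smul_iff_vec c (by rw [H.neg_left, D.P.hee, neg_zero]) (D.P.hee 1 1) hP10.symm0).inv
  exact h3.congr rfl (by module) (by simp)

include hl hU hW in
/-- The root element opposite to the first short simple root. -/
theorem exists_L (h1 : D.SS K 1) {c : F} (h : SG K (D.P.e 1) (c • D.P.f 0) 0)
    (hm : SG K (D.P.e 1) ((-1 : F) • D.P.f 0) 0) : SG K (D.P.e 0) ((-c) • D.P.f 1) 0 := by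
  have _ := h1
  have _ := hW
  obtain ⟨p1, p2, p3, p4⟩ := hm
  have hu : (D.U⁻¹).1.1 (D.P.e 1) = D.P.e 1 - D.P.e 0 :=
    inv_apply (by rw [map_sub, D.U_e_succ (i := 0) (by omega), U_e_zero, add_sub_cancel_right])
  have hA : SG K (D.P.e 1 - D.P.e 0) (c • (D.P.f 0 + D.P.f 1)) 0 :=
    h.conj (inv_mem hU) hu (by rw [map_smul, D.U_inv_f (by omega)])
  have hB : SG K ((-1 : F) • D.P.e 0) (c • D.P.f 1) 0 := hA.conj p4
    (by
      rw [map_sub, sgEl_apply, sgEl_apply]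
      simp [H.neg_right, H.neg_left, H.smul_right, D.P.hee, D.P.hef_self (Nat.zero_le l), D.P.hef_ne (show 1 ≠ 0 by omega)])
    (by
      rw [map_smul, map_add, sgEl_apply, sgEl_apply]
      simp [H.neg_right, H.neg_left, H.smul_right, D.P.hff, D.P.hfe_ne (show 0 ≠ 1 by omega), D.P.hfe_self hl])
  exact (SG.smul_iff_vec (-1) (by rw [H.smul_left, D.P.hfe_ne (by omega), mul_zero]) (D.P.hee 0 0) hB).congr
    rfl (by rw [map_neg, map_one, smul_smul, neg_one_mul]) (by simp)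

/-- The `d`-coefficients at the centre `e 1`. -/
def D1 (K : Subgroup H.SIsom) (x : F) : Prop := ∃ ν a : F, SG K (D.P.e 1) (x • D.P.d + ν • D.P.e 0) a

/-- The `d`-coefficients at the centre `e 0`. -/
def D0 (K : Subgroup H.SIsom) (y : F) : Prop := ∃ μ a : F, SG K (D.P.e 0) (y • D.P.d + μ • D.P.e 1) a

variable {D}

theorem D1.neg {x : F} (h : D.D1 K x) : D.D1 K (-x) := by
  obtain ⟨ν, a, h⟩ := h
  exact ⟨-ν, _, h.inv.congr rfl (by module) rfl⟩

variable (D)

include hl hU hW in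
/-- In rank two the parameters are closed under multiplication by `th`. -/
theorem closed_two (hl1 : l = 1) (h1 : D.SS K 1) {c : F} (h : D.SS K c) : D.SS K (D.th * c) := by
  subst hl1
  have hlow : ∀ {x : F}, D.SS K x → SG K (D.P.e 1) (x • D.P.f 0) 0 := fun hx => by
    simpa [zv] using D.zv_mem le_rfl hW h1 hx
  have hL : ∀ {x : F}, D.SS K x → SG K (D.P.e 0) ((-x) • D.P.f 1) 0 := fun hx =>
    D.exists_L le_rfl hU hW h1 (hlow hx) ((hlow h1).inv.congr rfl (by module) (map_zero _))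
  have hL1 := hL h1
  -- from the centre `e 1` to `e 0`
  have h10 : ∀ {x : F}, D.D1 K x → D.D0 K x := by
    rintro x ⟨ν, a, hx⟩
    obtain ⟨p1, p2, p3, p4⟩ := hL1
    have hA : SG K (D.P.e 1 + D.P.e 0) (x • D.P.d + ν • D.P.e 0) a := hx.conj p4
      (by rw [sgEl_apply]; simp [H.neg_right, H.neg_left, H.smul_right, D.P.hee, D.P.hef_self (le_refl 1)])
      (by
        rw [sgEl_apply]
        simp [H.neg_right, H.neg_left, H.add_left, H.smul_left, H.smul_right, D.P.hde, D.P.hee, D.P.hdf,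
          D.P.hef_ne (show 0 ≠ 1 by omega)])
    have hB := hA.split hx (D.P.hee 0 0) (D.P.hee 1 0) (by simp [H.add_left, H.smul_left, D.P.hde, D.P.hee])
    have hC : SG K (D.P.e 0) ((x • D.P.d + (-H.σ a) • D.P.e 1) + ν • D.P.e 0) a := hB.congr rfl (by module) rfl
    exact ⟨_, _, hC.shift ν⟩
  -- from the centre `e 0` to `e 1`
  have h01 : ∀ {k y : F}, D.SS K k → D.D0 K y → D.D1 K ((-k) * y) := by
    rintro k y hk ⟨μ, a, hy⟩
    obtain ⟨p1, p2, p3, p4⟩ := hlow hk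
    have hA : SG K (D.P.e 0 + (-H.σ k) • D.P.e 1) (y • D.P.d + μ • D.P.e 1) a := hy.conj p4
      (by rw [sgEl_apply]; simp [H.smul_right, D.P.hee, D.P.hef_self (show 0 ≤ 1 by omega)])
      (by
        rw [sgEl_apply]
        simp [H.add_left, H.smul_left, H.smul_right, D.P.hde, D.P.hee, D.P.hdf,
          D.P.hef_ne (show 1 ≠ 0 by omega)])
    have hB := hA.split hy (by simp [H.neg_right, H.neg_left, H.smul_left, H.smul_right, D.P.hee]) (by simp [H.neg_right, H.smul_right, D.P.hee])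
      (by simp [H.neg_right, H.neg_left, H.add_left, H.smul_left, H.smul_right, D.P.hde, D.P.hee])
    have hC := SG.smul_iff_vec (-H.σ k) (by simp [H.neg_right, H.neg_left, H.add_left, H.smul_left, D.P.hde, D.P.hee]) (D.P.hee 1 1) hB
    have hD : SG K (D.P.e 1) (((-k) * y) • D.P.d + ((-k) * (-H.σ a)) • D.P.e 0 + ((-k) * μ) • D.P.e 1)
        (-H.σ k * H.σ (-H.σ k) * a) := hC.congr rfl (by rw [map_neg, H.conj.invol]; module) rfl
    exact ⟨_, _, hD.shift _⟩
  have hd1 : D.D1 K 1 := by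
    have he : D.lev 1 = D.aEl 0 := by show D.aEl 0 * 1 = _; rw [mul_one]
    have ha : D.aEl 0 ∈ K := by
      obtain ⟨p1, p2, p3, p4⟩ := hL1
      have hw : ((-1 : F) • D.P.f 1) = -D.P.f (0 + 1) := by rw [neg_one_smul]
      rw [aEl, ← sgEl_congr p1 p2 p3 _ _ _ rfl hw rfl]
      exact p4
    have hs : D.sEl ∈ K := by
      have := hU
      rw [U, he] at this
      exact (Subgroup.mul_mem_cancel_right _ ha).1 this
    have hsg : SG K (D.P.e 1) (-D.P.d) (-D.th) := ⟨D.P.hee 1 1, D.short_perp, D.short_trace, hs⟩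
    exact ⟨0, _, hsg.inv.congr rfl (by module) rfl⟩
  have hdth : D.D1 K D.th := by
    obtain ⟨μ, a, hy⟩ := h10 hd1
    obtain ⟨g, hg, g0, g1, -, gd⟩ := D.exists_G le_rfl hW h1
    obtain ⟨δ, hδ⟩ : ∃ δ, δ * H.σ D.th = H.σ D.z := ⟨H.σ D.z / H.σ D.th, div_mul_cancel₀ _ D.sth_ne⟩
    have hA : SG K (D.P.e 0 + H.σ D.th • D.P.e 1)
        ((1 : F) • D.P.d + μ • D.P.e 1 + δ • (H.σ D.th • D.P.e 1)) a :=
      hy.conj hg g0 (by rw [map_add, map_smul, map_smul, gd, g1, smul_smul, hδ]; module)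
    have hB := hA.split' hy (by simp [H.smul_left, H.smul_right, D.P.hee]) (by simp [H.smul_right, D.P.hee])
      (by simp [H.add_left, H.smul_left, H.smul_right, D.P.hde, D.P.hee])
    have hC := SG.smul_iff_vec (H.σ D.th) (by simp [H.add_left, H.smul_left, D.P.hde, D.P.hee]) (D.P.hee 1 1) hB
    have hD : SG K (D.P.e 1) (D.th • D.P.d + (D.th * (-H.σ a - H.σ δ)) • D.P.e 0 +
        (D.th * (μ + δ * H.σ D.th)) • D.P.e 1) (H.σ D.th * H.σ (H.σ D.th) * a) :=
      hC.congr rfl (by rw [H.conj.invol]; module) rfl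
    exact ⟨_, _, hD.shift _⟩
  have hcomm : ∀ {x y : F}, D.D1 K x → D.D0 K y → D.SS K (x * H.σ y) := by
    rintro x y ⟨ν, a, hx⟩ ⟨μ, a', hy⟩
    obtain ⟨p1, p2, p3, p4⟩ := hx
    have e0 : (sgEl H p1 p2 p3).1.1 (D.P.e 0) = D.P.e 0 := by
      rw [sgEl_apply]; simp [H.add_right, H.smul_right, D.P.hee, D.P.hed]
    have e1 : (sgEl H p1 p2 p3).1.1 (y • D.P.d + μ • D.P.e 1) - (y • D.P.d + μ • D.P.e 1) =
        (-(y * H.σ x)) • D.P.e 1 := by
      rw [sgEl_apply]
      simp [H.add_left, H.add_right, H.smul_left, H.smul_right, D.P.hee, D.P.hed, D.P.hde, D.P.hdd]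
    have hA : SG K (D.P.e 0) ((-(y * H.σ x)) • D.P.e 1) 0 := (hy.diff p4 e0).congr rfl e1 (by
      rw [e1]; simp [H.neg_right, H.neg_left, H.add_left, H.smul_left, H.smul_right, D.P.hde, D.P.hee])
    exact (SG.smul_iff_vec (-(y * H.σ x)) (by rw [H.neg_left, D.P.hee, neg_zero]) (D.P.hee 1 1) hA.symm0).congr
      rfl (by rw [map_neg, map_mul, H.conj.invol]; module) (by simp)
  -- conjugate parameters
  have hd : ∀ {x : F}, D.SS K x → D.D1 K x := fun hx => by
    simpa using (h01 hx (h10 hd1)).neg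
  have hσ : D.SS K (H.σ c) := by simpa using hcomm hd1 (h10 (hd h))
  have := hcomm hdth (h10 (hd hσ))
  rwa [H.conj.invol] at this

include hl hU hW in
theorem closed (h1 : D.SS K 1) {c : F} (h : D.SS K c) : D.SS K (D.th * c) := by
  rcases eq_or_ne l 1 with hl1 | hl1
  · exact D.closed_two hl hU hW hl1 h1 h
  have hl2 : 2 ≤ l := by omega
  have hE : ∀ {x : F}, D.SS K x → SG K (D.P.e 1) (x • D.P.e 2) 0 := fun hx => by
    simpa [zv, hl1] using D.zv_mem hl hW h1 hx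
  have ht : ∀ {x : F}, D.SS K x → SG K (D.P.e 1) 0 (x - H.σ x) := fun hx =>
    (D.skew_self hl hW hx).inv.congr rfl neg_zero (by simp [H.conj.invol]; ring)
  obtain ⟨g, hg, g0, g1, g2, -⟩ := D.exists_G hl hW h1
  have h20 := (D.back hl hU hW hl2 h1 (hE h) (ht h)).2
  have hA : SG K (D.P.e 0 + H.σ D.th • D.P.e 1) (c • D.P.e 2) 0 := h20.conj hg g0 (by rw [map_smul, g2])
  have hB := hA.split h20 (by simp [H.smul_left, H.smul_right, D.P.hee]) (by simp [H.smul_right, D.P.hee])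
    (by simp [H.smul_left, H.smul_right, D.P.hee])
  have hC : SG K (D.P.e 1) ((D.th * c) • D.P.e 2) 0 :=
    (SG.smul_iff_vec (H.σ D.th) (by simp [H.smul_left, D.P.hee, H.add_left]) (D.P.hee 1 1) hB).congr rfl
      (by rw [H.conj.invol, map_zero, neg_zero, zero_smul, add_zero, smul_smul]) (mul_zero _)
  have ht' : SG K (D.P.e 1) 0 (D.th * c - H.σ (D.th * c)) := by
    rw [mul_comm D.th c]; exact D.skew_th hl hW h1 h
  have hS := (D.back hl hU hW hl2 h1 hC ht').1
  have hS' := (D.back hl hU hW hl2 h1 (hE hS) (ht hS)).1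
  rwa [H.conj.invol] at hS'

section Full

variable (hS : ∀ c, D.SS K c)

include hl hW hS in
theorem e_one_centre : D.P.e 1 ∈ H.uCentres K := centre_of_SG (D.P.hee 1 1) fun t ht => by
  refine (D.skew_th hl hW (hS 1) (hS t)).congr rfl rfl ?_
  rw [map_mul, eq_neg_of_add_eq_zero_right ht]
  linear_combination t * D.hth

/-- The parameters at the centre `b`. -/
def XX (K : Subgroup H.SIsom) (b w : V) : Prop := ∃ a, SG K b w a

variable {b w w' : V}

theorem XX.add (h : XX K b w) (h' : XX K b w') : XX K b (w + w') := by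
  obtain ⟨a, h⟩ := h; obtain ⟨a', h'⟩ := h'; exact ⟨_, h.mul h'⟩

theorem XX.neg (h : XX K b w) : XX K b (-w) := by obtain ⟨a, h⟩ := h; exact ⟨_, h.inv⟩

theorem XX.of_eq (h : XX K b w) (e : w = w') : XX K b w' := e ▸ h

theorem XX.centre (hb : H.h b b = 0) (c : F) : XX K b (c • b) :=
  ⟨_, ((SG.zero (K := K) hb).unshift c).congr rfl (zero_add _) rfl⟩

include hl hW hS in
theorem XX_e_one {j : ℕ} (hj : 1 ≤ j) (hjl : j ≤ l) (c : F) : XX K (D.P.e 1) (c • D.P.e j) := by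
  induction j generalizing c with
  | zero => omega
  | succ j ih =>
    rcases Nat.eq_zero_or_pos j with rfl | h
    · exact XX.centre (D.P.hee 1 1) c
    refine XX.of_eq ((XX.add ⟨0, D.step_diff hl hW (hS c) j h hjl⟩ (ih h (by omega) (c * D.th))).neg) ?_
    module

include hl hW hS in
theorem XX_f_zero (c : F) : XX K (D.P.e 1) (c • D.P.f 0) := by
  refine XX.of_eq ((XX.add ⟨0, D.second_diff hl hW (hS c)⟩ (D.XX_e_one hl hW hS hl le_rfl (c * D.th))).neg) ?_
  module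

include hl hW hS in
theorem XX_d (c : F) : XX K (D.P.e 1) (c • D.P.d) := by
  have hz0 : D.z ≠ 0 := fun h => by
    have := D.hz; rw [h, zero_mul] at this; exact zero_ne_one this
  obtain ⟨a, h⟩ := D.first_diff hl hW (hS (c / D.z))
  refine XX.of_eq ((XX.add ⟨a, h⟩ (D.XX_f_zero hl hW hS (c / D.z * D.th))).neg) ?_
  conv_rhs => rw [← div_mul_cancel₀ c hz0]
  module

include hl hU hW hS in
theorem f_one_root (c : F) : SG K (D.P.e 0) (c • D.P.f 1) 0 := by
  have hlow : ∀ x : F, SG K (D.P.e 1) (x • D.P.f 0) 0 := fun x => by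
    obtain ⟨a, h⟩ := D.XX_f_zero hl hW hS x
    exact h.any (D.e_one_centre hl hW hS) (by simp [H.smul_left, H.smul_right, D.P.hff])
  exact (D.exists_L hl hU hW (hS 1) (hlow (-c)) (hlow (-1))).congr rfl (by rw [neg_neg]) rfl

include hl hU hW hS in
theorem exists_Lm : ∃ g ∈ K, g.1.1 (D.P.e 1) = D.P.e 1 + D.P.e 0 ∧ g.1.1 (D.P.e 0) = D.P.e 0 ∧
    g.1.1 D.P.d = D.P.d ∧ ∀ j, j ≠ 1 → g.1.1 (D.P.e j) = D.P.e j := by
  obtain ⟨p1, p2, p3, p4⟩ := D.f_one_root hl hU hW hS (-1)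
  refine ⟨_, p4, ?_, ?_, ?_, fun j hj => ?_⟩ <;> rw [sgEl_apply]
  · simp [H.neg_right, H.neg_left, H.smul_right, D.P.hee, D.P.hef_self hl]
  · simp [H.neg_right, H.neg_left, H.smul_right, D.P.hee, D.P.hef_ne (show 0 ≠ 1 by omega)]
  · simp [H.neg_right, H.neg_left, H.smul_right, D.P.hde, D.P.hdf]
  · simp [H.neg_right, H.neg_left, H.smul_right, D.P.hee, D.P.hef_ne hj]

include hl hU hW hS in
theorem e_zero_centre : D.P.e 0 ∈ H.uCentres K := centre_of_SG (D.P.hee 0 0) fun t ht => by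
  obtain ⟨g, hg, g1, g0, -, -⟩ := D.exists_Lm hl hU hW hS
  have h1 := hS (D.th * t)
  have hA : SG K (D.P.e 1 + D.P.e 0) ((D.th * t) • D.P.e 0) 0 := SG.conj h1 hg g1 (by rw [map_smul, g0])
  have hB := hA.split h1 (D.P.hee 0 0) (D.P.hee 1 0) (by simp [H.smul_left, D.P.hee])
  have hC : SG K (D.P.e 0) (0 + (D.th * t) • D.P.e 0) 0 := hB.congr rfl (by simp) rfl
  refine (hC.shift _).congr rfl rfl ?_
  rw [map_mul, eq_neg_of_add_eq_zero_right ht]
  linear_combination t * D.hth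

include hl hU hW hS in
theorem XX_transfer {w : V} (h : XX K (D.P.e 1) w) (hw0 : H.h w (D.P.e 0) = 0)
    (hfix : ∀ g : H.SIsom, g.1.1 (D.P.e 0) = D.P.e 0 → g.1.1 D.P.d = D.P.d →
      (∀ j, j ≠ 1 → g.1.1 (D.P.e j) = D.P.e j) → g.1.1 w = w) : XX K (D.P.e 0) w := by
  obtain ⟨g, hg, g1, g0, gd, gj⟩ := D.exists_Lm hl hU hW hS
  obtain ⟨a, h⟩ := h
  have hA := h.conj hg g1 (hfix g g0 gd gj)
  have hB := hA.split h (D.P.hee 0 0) (D.P.hee 1 0) hw0
  have h01 : XX K (D.P.e 0) ((H.σ a) • D.P.e 1) := by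
    refine ⟨0, ((SG.smul_iff_vec (-a) ?_ (D.P.hee 0 0) (SG.symm0 (hS (-a)))).congr rfl ?_ (by simp))⟩
    · rw [H.neg_left, D.P.hee, neg_zero]
    · rw [map_neg]; module
  exact XX.of_eq (XX.add ⟨a, hB⟩ h01) (by module)

include hl hU hW hS in
theorem XX_zero_e {j : ℕ} (hjl : j ≤ l) (c : F) : XX K (D.P.e 0) (c • D.P.e j) := by
  rcases (show j = 0 ∨ j = 1 ∨ 2 ≤ j by omega) with rfl | rfl | h
  · exact XX.centre (D.P.hee 0 0) c
  · refine ⟨0, ((SG.smul_iff_vec (-H.σ c) ?_ (D.P.hee 0 0) (SG.symm0 (hS (-H.σ c)))).congr rfl ?_ (by simp))⟩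
    · rw [H.neg_left, D.P.hee, neg_zero]
    · rw [map_neg, H.conj.invol]; module
  · exact D.XX_transfer hl hU hW hS (D.XX_e_one hl hW hS (by omega) hjl c)
      (by rw [H.smul_left, D.P.hee, mul_zero]) fun g _ _ gj => by rw [map_smul, gj j (by omega)]

include hl hU hW hS in
theorem XX_zero_f {j : ℕ} (hj : 1 ≤ j) (hjl : j ≤ l) (c : F) : XX K (D.P.e 0) (c • D.P.f j) := by
  induction j with
  | zero => omega
  | succ j ih =>
    rcases Nat.eq_zero_or_pos j with rfl | h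
    · exact ⟨0, D.f_one_root hl hU hW hS c⟩
    obtain ⟨a, ha⟩ := ih h (by omega)
    refine ⟨_, ((ha.diff (inv_mem hU) D.U_inv_e_zero).congr rfl ?_ rfl)⟩
    rw [map_smul, D.U_inv_f (by omega), smul_add, add_sub_cancel_left]

include hl hU hW hS in
theorem all_zero {w : V} (hw : H.h w (D.P.e 0) = 0) : XX K (D.P.e 0) w := by
  rw [D.P.span w]
  have h0 : XX K (D.P.e 0) (0 : V) := ⟨0, SG.zero (D.P.hee 0 0)⟩
  refine XX.add (Finset.sum_induction _ (fun x => XX K (D.P.e 0) x) (fun _ _ => XX.add) h0 fun i hi => ?_)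
    (D.XX_transfer hl hU hW hS (D.XX_d hl hW hS _) (by rw [H.smul_left, D.P.hde, mul_zero])
      fun g _ gd _ => by rw [map_smul, gd])
  rw [Finset.mem_range] at hi
  rcases Nat.eq_zero_or_pos i with rfl | h
  · rw [hw, zero_smul, add_zero]; exact D.XX_zero_e hl hU hW hS (by omega) _
  · exact XX.add (D.XX_zero_e hl hU hW hS (by omega) _) (D.XX_zero_f hl hU hW hS h (by omega) _)

end Full

include hW in
/-- The last step. -/
theorem eq_top_of_e_zero (hd : 4 ≤ Module.finrank F V ∨ (Module.finrank F V = 3 ∧ 3 ≤ H.q))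
    (hC : D.P.e 0 ∈ H.uCentres K) (hX : ∀ w, H.h w (D.P.e 0) = 0 → XX K (D.P.e 0) w) : K = ⊤ := by
  have hN : ∀ (w : V) (a : F), H.h w (D.P.e 0) = 0 → a + H.σ a = -H.h w w → SG K (D.P.e 0) w a := by
    intro w a hw ha
    obtain ⟨a', h⟩ := hX w hw
    exact h.any hC ha
  refine eq_top_of_parabolic hd (D.P.hee 0 0) (D.P.hfe_self (Nat.zero_le l)) ?_ hN
  obtain ⟨a0, ha0⟩ : ∃ a0, a0 = D.W.1.1 (D.P.e 0) := ⟨_, rfl⟩
  have haC : a0 ∈ H.uCentres K := ha0 ▸ uCentres_map hC hW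
  have hth := D.th_ne
  have hsth := D.sth_ne
  obtain ⟨w, hw⟩ : ∃ w, w = (D.z / D.th) • D.P.d := ⟨_, rfl⟩
  have htr : -D.th⁻¹ + H.σ (-D.th⁻¹) = -H.h w w := by
    rw [hw, H.smul_left, H.smul_right, D.P.hdd, map_neg, map_inv₀, map_div₀]
    field_simp
    linear_combination -D.hth + D.hz
  obtain ⟨p1, p2, p3, p4⟩ := hN w (-D.th⁻¹) (by rw [hw, H.smul_left, D.P.hde, mul_zero]) htr
  have key : (sgEl H p1 p2 p3).1.1 (D.P.f 0) = (-D.th⁻¹) • a0 := by
    rw [sgEl_apply, ha0, W_e_zero, D.P.hfe_self (Nat.zero_le l), hw, H.smul_right, D.P.hfd, mul_zero, sub_zero,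
      mul_one, one_smul, smul_sub, smul_sub, smul_smul (-D.th⁻¹) D.th, neg_mul, inv_mul_cancel₀ hth,
      div_eq_inv_mul]
    module
  have := uCentres_map (uCentres_smul haC (-D.th⁻¹)) (inv_mem p4)
  rwa [inv_apply key] at this

include hl hU hW in
theorem eq_top_big (h1 : D.SS K 1)
    (hgen : ∀ A : AddSubgroup F, (1 : F) ∈ A → (∀ x ∈ A, D.th * x ∈ A) → A = ⊤) : K = ⊤ := by
  have hS : ∀ c, D.SS K c := fun c => by
    have := hgen (ssGroup D K) h1 fun x hx => D.closed hl hU hW h1 hx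
    exact (this ▸ AddSubgroup.mem_top c : c ∈ ssGroup D K)
  exact D.eq_top_of_e_zero hW (Or.inl (by rw [D.P.finrank_eq]; omega)) (D.e_zero_centre hl hU hW hS)
    fun w hw => D.all_zero hl hU hW hS hw

end Data

end Cfsg.Lib.SUThreeUnip
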