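import Cfsg.Agent.Known.SUThreeUnip.Small
import Cfsg.Agent.Classical.Unitary.Matrix

/-! # Three conjugate regular unipotent elements generate a unitary group of odd degree -/

set_option autoImplicit false
set_option linter.style.haveILetI false

namespace Cfsg.Lib.SUThreeUnip

open Cfsg.Lib.Classical Matrix

universe u

variable {F : Type u} [Field F] [Fintype F]

theorem exists_three {q : ℕ} (hF : Fintype.card F = q ^ 2) (n : ℕ) (hn : 3 ≤ n) (hodd : Odd n)
    (h32 : ¬ (n = 3 ∧ q = 2)) :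
    ∃ u g h : ↥(Cfsg.SU n F q),
      (IsNilpotent (((u : Matrix.SpecialLinearGroup (Fin n) F) : Matrix (Fin n) (Fin n) F) - 1) ∧
        (((u : Matrix.SpecialLinearGroup (Fin n) F) : Matrix (Fin n) (Fin n) F) - 1) ^ (n - 1) ≠ 0) ∧
      Subgroup.closure ({u, g * u * g⁻¹, h * u * h⁻¹} : Set ↥(Cfsg.SU n F q)) = ⊤ := by
  obtain ⟨l, rfl⟩ : ∃ l, n = 2 * l + 3 := by obtain ⟨j, rfl⟩ := hodd; exact ⟨j - 1, by omega⟩
  have hd : Module.finrank F (Fin (2 * l + 3) → F) = 2 * l + 3 := Module.finrank_fin_fun _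
  obtain ⟨D, g, h, hc⟩ : ∃ (D : Data (stdHerm (2 * l + 3) hF) l) (g h : (stdHerm (2 * l + 3) hF).SIsom),
      Subgroup.closure ({D.U, g * D.U * g⁻¹, h * D.U * h⁻¹} : Set (stdHerm (2 * l + 3) hF).SIsom) = ⊤ := by
    rcases Nat.eq_zero_or_pos l with rfl | hl
    · exact exists_three_small _ hd (by
        rw [stdHerm_q]
        have := (stdHerm (2 * 0 + 3) hF).two_le_q
        rw [stdHerm_q] at this
        omega)
    · exact exists_three_big _ hl hd
  set φ := suEquiv (2 * l + 3) hF with hφ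
  have hlin : ∀ r, Matrix.toLin' (((((φ D.U : Cfsg.SU (2 * l + 3) F q) :
      Matrix.SpecialLinearGroup (Fin (2 * l + 3)) F) : Matrix (Fin (2 * l + 3)) (Fin (2 * l + 3)) F) - 1) ^ r) =
      D.nil ^ r := fun r => by
    rw [Matrix.toLin'_pow, map_sub, Matrix.toLin'_one, hφ, suEquiv_coe]
    congr 2
    exact LinearMap.ext fun x => by rw [Matrix.toLin'_apply, unitToGL_mulVec]; rfl
  refine ⟨φ D.U, φ g, φ h, ⟨⟨2 * l + 3, ?_⟩, ?_⟩, ?_⟩
  · apply Matrix.toLin'.injective
    rw [hlin, D.nil_pow_top, map_zero]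
  · intro h0
    apply D.nil_pow_ne
    rw [← hlin, show 2 * l + 2 = 2 * l + 3 - 1 by omega, h0, map_zero]
  · have := congrArg (Subgroup.map φ.toMonoidHom) hc
    rw [MonoidHom.map_closure, Subgroup.map_top_of_surjective _ φ.surjective] at this
    simpa [Set.image_insert_eq, map_mul, map_inv] using this

end Cfsg.Lib.SUThreeUnip
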