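import Cfsg.Agent.Known.SUThreeUnip.Start

/-! # Generation in dimension three -/

set_option autoImplicit false
set_option linter.style.haveILetI false

namespace Cfsg.Lib.SUThreeUnip

open Cfsg.Lib.Classical Cfsg.Lib.Classical.HermSpace

universe u v

variable {F : Type u} [Field F] [Finite F] {V : Type v} [AddCommGroup V] [Module F V] [FiniteDimensional F V]

namespace Data

variable {H : HermSpace F V} (D : Data H 0) {K : Subgroup H.SIsom}

theorem U_SG (hU : D.U ∈ K) : SG K (D.P.e 0) (-D.P.d) (-D.th) := by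
  refine ⟨D.P.hee 0 0, D.short_perp, D.short_trace, ?_⟩
  rw [U, show D.lev 0 = 1 from rfl, mul_one] at hU
  exact hU

/-- The element producing a long root element from two conjugates. -/
noncomputable def sw (t : F) (ht : H.σ t = -t) : H.SIsom :=
  sgEl H (b := D.P.e 0) (w := (-D.th * t) • D.P.d) (a := -D.th * ((D.th * t) * H.σ (D.th * t))) (D.P.hee 0 0)
    (by rw [H.smul_left, D.P.hde, mul_zero]) (by
      rw [H.smul_left, H.smul_right, D.P.hdd]
      simp only [map_mul, map_neg, H.conj.invol, ht]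
      linear_combination (D.th * H.σ D.th * t * t) * D.hth)

theorem long_SG {t : F} (ht : H.σ t = -t) (hU : D.U ∈ K) (hg : D.sw t ht * D.U * (D.sw t ht)⁻¹ ∈ K) :
    SG K (D.P.e 0) 0 t := by
  have h1 : SG K (D.P.e 0) (-D.P.d + (-H.σ D.th * H.σ t) • D.P.e 0) (-D.th) := by
    rw [U, show D.lev 0 = 1 from rfl, mul_one, sEl, sgEl_conj] at hg
    refine SG.congr ⟨_, _, _, hg⟩ ?_ ?_ rfl <;> rw [sw, sgEl_apply]
    · simp [H.neg_right, H.smul_right, D.P.hee, D.P.hed]
    · simp [H.neg_right, H.smul_right, H.neg_left, D.P.hde, D.P.hdd]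
  refine ((h1.shift _).mul (D.U_SG hU).inv).congr rfl (add_neg_cancel _) ?_
  simp only [map_neg, map_mul, H.conj.invol, H.neg_left, H.neg_right, D.P.hdd, ht]
  linear_combination (-1 + t) * D.hth

theorem long_mul {a b : F} (h : SG K (D.P.e 0) 0 a) (h' : SG K (D.P.e 0) 0 b) : SG K (D.P.e 0) 0 (a + b) :=
  (h.mul h').congr rfl (add_zero 0) (by rw [H.zero_left, sub_zero])

/-- An element of the Borel subgroup. -/
theorem exists_borel (hW : D.W ∈ K) {s t : F} (hs : SG K (D.P.e 0) 0 s) (ht : SG K (D.P.e 0) 0 t)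
    (hst : t * s * (D.th * H.σ D.th) = -1) :
    ∃ k ∈ K, ∃ c : F, k.1.1 (D.P.e 0) = (-(t * H.σ D.th))⁻¹ • D.P.e 0 ∧
      k.1.1 D.P.d = (-(H.σ D.th / D.th)) • D.P.d + c • D.P.e 0 := by
  obtain ⟨a0, ha0⟩ : ∃ a0, a0 = D.P.e 0 - D.z • D.P.d - D.th • D.P.f 0 := ⟨_, rfl⟩
  obtain ⟨p1, p2, p3, p4⟩ := hs
  obtain ⟨q1, q2, q3, q4⟩ := ht.conj hW (b' := a0) (w' := 0) (by rw [ha0, W_e_zero]) (map_zero _)
  obtain ⟨S, hS⟩ : ∃ S, S = sgEl H p1 p2 p3 := ⟨_, rfl⟩
  obtain ⟨T, hT⟩ : ∃ T, T = sgEl H q1 q2 q3 := ⟨_, rfl⟩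
  have hSm : S ∈ K := hS ▸ p4
  have hTm : T ∈ K := hT ▸ q4
  have hSa : ∀ x, S.1.1 x = x + (s * H.h x (D.P.e 0)) • D.P.e 0 := fun x => by
    rw [hS, sgEl_apply, H.zero_right, smul_zero, add_zero, sub_zero]
  have hTa : ∀ x, T.1.1 x = x + (t * H.h x a0) • a0 := fun x => by
    rw [hT, sgEl_apply, H.zero_right, smul_zero, add_zero, sub_zero]
  have e0a : H.h (D.P.e 0) a0 = -H.σ D.th := by
    rw [ha0]
    simp [H.sub_right, H.smul_right, D.P.hee, D.P.hed, D.P.hef_self le_rfl]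
  have da : H.h D.P.d a0 = -H.σ D.z := by
    rw [ha0]
    simp [H.sub_right, H.smul_right, D.P.hde, D.P.hdf, D.P.hdd]
  have ae : H.h a0 (D.P.e 0) = -D.th := by
    rw [ha0]
    simp [H.sub_left, H.smul_left, D.P.hee, D.P.hde, D.P.hfe_self le_rfl]
  have hw0 : (S * T * S).1.1 (D.P.e 0) = (-(t * H.σ D.th)) • a0 := by
    rw [H.smul_mul_apply, H.smul_mul_apply, hSa (D.P.e 0), D.P.hee, mul_zero, zero_smul, add_zero, hTa, e0a,
      hSa, H.add_left, H.smul_left, D.P.hee, ae]
    match_scalars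
    · linear_combination hst
    · ring
  have hwd : (S * T * S).1.1 D.P.d =
      D.P.d + (t * s * D.th * H.σ D.z) • D.P.e 0 + (-(t * H.σ D.z)) • a0 := by
    rw [H.smul_mul_apply, H.smul_mul_apply, hSa D.P.d, D.P.hde, mul_zero, zero_smul, add_zero, hTa, da,
      hSa, H.add_left, H.smul_left, D.P.hde, ae]
    module
  have hth := D.th_ne
  have ht0 : t ≠ 0 := by rintro rfl; simp at hst
  have hμ : -(t * H.σ D.th) ≠ 0 := neg_ne_zero.2 (mul_ne_zero ht0 D.sth_ne)
  refine ⟨(S * T * S)⁻¹ * D.W, mul_mem (inv_mem (mul_mem (mul_mem hSm hTm) hSm)) hW,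
    ((-(H.σ D.th / D.th)) * (t * H.σ D.z) - H.σ D.z / D.th) / (-(t * H.σ D.th)), ?_, ?_⟩
  · rw [H.smul_mul_apply, W_e_zero, ← ha0]
    refine inv_apply ?_
    rw [map_smul, hw0, smul_smul, inv_mul_cancel₀ hμ, one_smul]
  · rw [H.smul_mul_apply, W_d]
    refine inv_apply ?_
    rw [map_add, map_smul, map_smul, hwd, hw0, smul_smul, div_mul_cancel₀ _ hμ, ha0]
    match_scalars <;> field_simp
    · linear_combination D.hz - D.hth
    · linear_combination (-(H.σ D.z)) * hst
    · ring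

/-- The `d`-coefficients at the centre `e 0`. -/
def X0 (K : Subgroup H.SIsom) : AddSubgroup F where
  carrier := {x | XX K (D.P.e 0) (x • D.P.d)}
  add_mem' {x y} h h' := XX.of_eq (XX.add h h') (add_smul x y _).symm
  zero_mem' := ⟨0, (SG.zero (D.P.hee 0 0)).congr rfl (zero_smul F _).symm rfl⟩
  neg_mem' {x} h := XX.of_eq (XX.neg h) (neg_smul x _).symm

theorem eq_top_small (hq : 3 ≤ H.q) (hU : D.U ∈ K) (hW : D.W ∈ K) {s t : F} (hs : SG K (D.P.e 0) 0 s)
    (ht : SG K (D.P.e 0) 0 t) (hst : t * s * (D.th * H.σ D.th) = -1)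
    (hgen : ∀ S : Subfield F, H.σ D.th * H.σ D.th / (D.th * (t * D.th * H.σ D.th)) ∈ S → S = ⊤) :
    K = ⊤ := by
  have h1 : (1 : F) ∈ D.X0 K := XX.of_eq (XX.neg ⟨_, D.U_SG hU⟩) (by rw [neg_neg, one_smul])
  obtain ⟨k, hk, c, k0, kd⟩ := D.exists_borel hW hs ht hst
  have htt : H.σ t = -t := by
    have := ht.trace
    rw [H.zero_left, neg_zero] at this
    linear_combination this
  have hmul : ∀ x ∈ D.X0 K, -(H.σ D.th * H.σ D.th / (D.th * (t * D.th * H.σ D.th))) * x ∈ D.X0 K := by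
    rintro x ⟨a, hx⟩
    have hA := hx.conj hk k0 (w' := x • ((-(H.σ D.th / D.th)) • D.P.d + c • D.P.e 0)) (by rw [map_smul, kd])
    have hB := SG.smul_iff_vec _ (by simp [H.neg_left, H.smul_left, H.add_left, D.P.hde, D.P.hee]) (D.P.hee 0 0) hA
    have hC : SG K (D.P.e 0) ((H.σ (-(t * H.σ D.th))⁻¹ * x * (-(H.σ D.th / D.th))) • D.P.d +
        (H.σ (-(t * H.σ D.th))⁻¹ * x * c) • D.P.e 0)
        ((-(t * H.σ D.th))⁻¹ * H.σ (-(t * H.σ D.th))⁻¹ * a) := hB.congr rfl (by module) rfl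
    refine XX.of_eq ⟨_, hC.shift _⟩ ?_
    congr 1
    rw [map_inv₀, map_neg, map_mul, htt, H.conj.invol]
    have := D.th_ne
    have := D.sth_ne
    have ht0 : t ≠ 0 := by rintro rfl; simp at hst
    field_simp
  have hX : ∀ x, x ∈ D.X0 K := by
    have hS : stabField (D.X0 K) = ⊤ := hgen _ (by
      rw [← neg_neg (H.σ D.th * H.σ D.th / (D.th * (t * D.th * H.σ D.th)))]
      exact (stabField (D.X0 K)).neg_mem hmul)
    intro x
    rw [addSubgroup_eq_top hS h1]
    trivial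
  have hC : D.P.e 0 ∈ H.uCentres K := centre_of_SG (D.P.hee 0 0) fun u hu => by
    obtain ⟨a, ha⟩ := hX (-D.th * u)
    obtain ⟨a', g1, g2, g3, g4⟩ := h1
    have hfix : (sgEl H g1 g2 g3).1.1 (D.P.e 0) = D.P.e 0 := by
      rw [sgEl_apply]; simp [D.P.hee, D.P.hed]
    have hd : (sgEl H g1 g2 g3).1.1 ((-D.th * u) • D.P.d) - (-D.th * u) • D.P.d = 0 + (D.th * u) • D.P.e 0 := by
      rw [sgEl_apply]; simp [H.neg_left, H.smul_left, D.P.hde, D.P.hdd]
    refine ((ha.diff g4 hfix).congr rfl hd rfl).shift _ |>.congr rfl rfl ?_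
    rw [hd]
    simp only [zero_add, H.smul_left, H.smul_right, D.P.hde, mul_zero, map_mul]
    linear_combination u * D.hth - H.σ D.th * hu
  refine D.eq_top_of_e_zero hW (Or.inr ⟨by rw [D.P.finrank_eq], hq⟩) hC fun w hw => ?_
  rw [D.P.span w, Finset.sum_range_one, hw, zero_smul, add_zero]
  exact XX.add (XX.centre (D.P.hee 0 0) _) (hX _)

end Data

theorem mem_fixed_of_card {H : HermSpace F V} {S : Subfield F} (hS : Nat.card S = H.q) {x : F} (hx : x ∈ S) :
    H.σ x = x := by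
  classical
  have := Fintype.ofFinite F
  rcases eq_or_ne x 0 with rfl | h0
  · exact map_zero _
  have hq := H.two_le_q
  let A : Finset Fˣ := Finset.univ.filter fun a : Fˣ => a ^ (H.q - 1) = 1
  let B : Finset Fˣ := Finset.univ.filter fun a : Fˣ => H.σ (a : F) = a
  have hBA : B ⊆ A := by
    intro a ha
    simp only [A, B, Finset.mem_filter, Finset.mem_univ, true_and] at ha ⊢
    exact Units.ext (by
      rw [Units.val_pow_eq_pow_val]; exact pow_card_sub_one (K := fixedField H.σ) ha a.ne_zero)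
  have hA : A.card ≤ H.q - 1 := IsCyclic.card_pow_eq_one_le (by omega)
  have hB : B.card = H.q - 1 := by
    rw [HermSpace.q, ← H.conj.card_fixedUnits, Nat.card_eq_fintype_card, Fintype.card_subtype]
  have hmem : Units.mk0 x h0 ∈ A := by
    simp only [A, Finset.mem_filter, Finset.mem_univ, true_and]
    exact Units.ext (by rw [Units.val_pow_eq_pow_val, ← hS]; exact pow_card_sub_one hx h0)
  rw [← Finset.eq_of_subset_of_card_le hBA (by omega)] at hmem
  simpa [B] using hmem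

theorem cubic_gen_even {H : HermSpace F V} (hq : 3 ≤ H.q) (h2 : (2 : F) = 0) {ζ : F} (hn : ζ * H.σ ζ = 1)
    (ho : orderOf ζ = H.q + 1) (S : Subfield F) (h : ζ * ζ / (1 + ζ) ∈ S) : S = ⊤ := by
  by_contra hS
  have hζ : ζ ≠ 0 := left_ne_zero_of_mul_eq_one hn
  have h1 : 1 + ζ ≠ 0 := one_add_ne ho
  -- subfields are invariant under the conjugation
  have hinv : ∀ x ∈ S, H.σ x ∈ S := by
    intro x hx
    rcases eq_or_ne x 0 with rfl | h0
    · rw [map_zero]; exact S.zero_mem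
    obtain ⟨m, hm⟩ := MonoidHom.map_cyclic (Units.map H.σ.toMonoidHom)
    have := congrArg Units.val (hm (Units.mk0 x h0))
    rw [Units.val_zpow_eq_zpow_val, Units.val_mk0] at this
    rw [show H.σ x = x ^ m from this]
    exact zpow_mem hx m
  have hs : H.σ ζ = ζ⁻¹ := eq_inv_of_mul_eq_one_right hn
  have hN : ζ / (1 + ζ) / (1 + ζ) ∈ S := by
    have := S.mul_mem h (hinv _ h)
    convert this using 1
    rw [map_div₀, map_mul, map_add, map_one, hs]
    have : 1 + ζ⁻¹ ≠ 0 := by rw [← hs, ← map_one H.σ, ← map_add]; exact (map_ne_zero _).2 h1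
    have : ζ + 1 ≠ 0 := by rwa [add_comm]
    field_simp
    ring
  have ht : ζ + ζ⁻¹ ∈ S := by
    convert S.inv_mem hN using 1
    field_simp
    linear_combination (-ζ) * h2
  obtain ⟨d, hd, hc, hr⟩ := card_proper S hS
  -- the trace has degree two below the field
  have hsub : ∀ x : F, ∃ a ∈ S, ∃ b ∈ S, x = a + b * ζ := by
    let A : AddSubgroup F :=
      { carrier := {x | ∃ a ∈ S, ∃ b ∈ S, x = a + b * ζ}
        add_mem' := by
          rintro _ _ ⟨a, ha, b, hb, rfl⟩ ⟨a', ha', b', hb', rfl⟩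
          exact ⟨_, S.add_mem ha ha', _, S.add_mem hb hb', by ring⟩
        zero_mem' := ⟨0, S.zero_mem, 0, S.zero_mem, by ring⟩
        neg_mem' := by
          rintro _ ⟨a, ha, b, hb, rfl⟩
          exact ⟨_, S.neg_mem ha, _, S.neg_mem hb, by ring⟩ }
    have hA : A = ⊤ := addSubgroup_eq_top (subfield_eq_top_of_normOne hn ho (by
      rintro _ ⟨a, ha, b, hb, rfl⟩
      refine ⟨-b, S.neg_mem hb, a + b * (ζ + ζ⁻¹), S.add_mem ha (S.mul_mem hb ht), ?_⟩
      field_simp
      ring)) ⟨1, S.one_mem, 0, S.zero_mem, by ring⟩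
    exact fun x => (hA ▸ AddSubgroup.mem_top x : x ∈ A)
  have hle : Nat.card F ≤ Nat.card S ^ 2 := by
    rw [sq, ← Nat.card_prod]
    refine Nat.card_le_card_of_surjective (fun p : S × S => (p.1 : F) + p.2 * ζ) fun x => ?_
    obtain ⟨a, ha, b, hb, rfl⟩ := hsub x
    exact ⟨(⟨a, ha⟩, ⟨b, hb⟩), rfl⟩
  rw [H.card_field] at hle hc
  have hle' := (Nat.pow_le_pow_iff_left (by norm_num)).1 hle
  have hge : Nat.card S ^ 2 ≤ H.q ^ 2 := hc ▸ Nat.pow_le_pow_right (by omega) hd
  have hr : Nat.card S = H.q := le_antisymm ((Nat.pow_le_pow_iff_left (by norm_num)).1 hge) hle'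
  replace h : H.σ (ζ * ζ / (1 + ζ)) = ζ * ζ / (1 + ζ) := mem_fixed_of_card hr h
  rw [map_div₀, map_mul, map_add, map_one, hs] at h
  have : 1 + ζ⁻¹ ≠ 0 := by rw [← hs, ← map_one H.σ, ← map_add]; exact (map_ne_zero _).2 h1
  have : ζ + 1 ≠ 0 := by rwa [add_comm]
  field_simp at h
  have h3 : ζ ^ 3 = 1 := by
    have : (1 + ζ) * (ζ ^ 3 - 1) = 0 := by linear_combination -h
    exact sub_eq_zero.1 ((mul_eq_zero.1 this).resolve_left h1)
  have := Nat.le_of_dvd (by norm_num) (orderOf_dvd_of_pow_eq_one h3)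
  omega

theorem arith_odd {q r d : ℕ} (hodd : Odd q) (h5 : q ≠ 5) (hq : 3 ≤ q) (hd : 2 ≤ d) (h : q ^ 2 = r ^ d)
    (hdvd : q + 1 ∣ 3 * (r - 1)) : False := by
  have hr : Odd r := by
    have h' : Odd (r ^ d) := h ▸ hodd.pow
    exact (Nat.odd_pow_iff (show d ≠ 0 by omega)).1 h'
  have hr1 : r ≠ 1 := by
    rintro rfl
    rw [one_pow] at h
    nlinarith
  have hr3 : 3 ≤ r := by obtain ⟨j, rfl⟩ := hr; omega
  rcases Nat.eq_or_lt_of_le hd with rfl | hd3
  · obtain rfl : q = r := Nat.pow_left_injective (by norm_num) h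
    have h6 : q + 1 ∣ 6 := by
      have := Nat.dvd_sub (dvd_mul_left (q + 1) 3) hdvd
      rwa [show 3 * (q + 1) - 3 * (q - 1) = 6 by omega] at this
    have h7 : q + 1 ≤ 6 := Nat.le_of_dvd (by norm_num) h6
    replace h7 : q ≤ 5 := by omega
    interval_cases q <;> simp_all (config := { decide := true })
  · have h3 : r ^ 3 ≤ q ^ 2 := h ▸ Nat.pow_le_pow_right (by omega) hd3
    have hle := Nat.le_of_dvd (by omega) hdvd
    obtain ⟨j, rfl⟩ : ∃ j, r = j + 3 := ⟨r - 3, by omega⟩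
    have hle' : q ≤ 3 * j + 5 := by omega
    have hsq : q ^ 2 ≤ (3 * j + 5) ^ 2 := Nat.pow_le_pow_left hle' 2
    rcases Nat.lt_or_ge j 2 with hj | hj
    · interval_cases j
      · omega
      · exact absurd hr (by decide)
    · nlinarith [sq_nonneg ((j : ℤ) - 1)]

/-- Three conjugates generate in dimension three. -/
theorem exists_three_small (H : HermSpace F V) (hd : Module.finrank F V = 3) (hq : 3 ≤ H.q) :
    ∃ (D : Data H 0) (g h : H.SIsom),
      Subgroup.closure ({D.U, g * D.U * g⁻¹, h * D.U * h⁻¹} : Set H.SIsom) = ⊤ := by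
  have main : ∀ (th t : F) (ht : H.σ t = -t), th + H.σ th = 1 →
      (∀ (D : Data H 0) (K : Subgroup H.SIsom), D.th = th → D.U ∈ K → SG K (D.P.e 0) 0 t →
        ∃ s, SG K (D.P.e 0) 0 s ∧ t * s * (th * H.σ th) = -1) →
      (∀ S : Subfield F, H.σ th * H.σ th / (th * (t * th * H.σ th)) ∈ S → S = ⊤) →
      ∃ (D : Data H 0) (g h : H.SIsom),
        Subgroup.closure ({D.U, g * D.U * g⁻¹, h * D.U * h⁻¹} : Set H.SIsom) = ⊤ := by
    intro th t ht hth hs hgen
    obtain ⟨D, rfl⟩ := exists_data H (l := 0) hd hth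
    refine ⟨D, D.sw t ht, D.M, ?_⟩
    have hU : D.U ∈ Subgroup.closure ({D.U, D.sw t ht * D.U * (D.sw t ht)⁻¹, D.M * D.U * D.M⁻¹} : Set H.SIsom) :=
      Subgroup.subset_closure (by simp)
    have hg : D.sw t ht * D.U * (D.sw t ht)⁻¹ ∈
        Subgroup.closure ({D.U, D.sw t ht * D.U * (D.sw t ht)⁻¹, D.M * D.U * D.M⁻¹} : Set H.SIsom) :=
      Subgroup.subset_closure (by simp)
    have hW : D.W ∈ Subgroup.closure ({D.U, D.sw t ht * D.U * (D.sw t ht)⁻¹, D.M * D.U * D.M⁻¹} : Set H.SIsom) :=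
      Subgroup.subset_closure (by simp [Data.W])
    obtain ⟨s, hs', hst⟩ := hs D _ rfl hU (D.long_SG ht hU hg)
    exact D.eq_top_small hq hU hW hs' (D.long_SG ht hU hg) hst hgen
  have := Fintype.ofFinite F
  obtain ⟨m, hn, ho⟩ := exists_normOne_gen H
  have hm0 : m ≠ 0 := left_ne_zero_of_mul_eq_one hn
  have hs : H.σ m = m⁻¹ := eq_inv_of_mul_eq_one_right hn
  have hord : ∀ k : ℕ, 0 < k → k ≤ H.q → m ^ k ≠ 1 := fun k hk hk' h => by
    have := Nat.le_of_dvd hk (orderOf_dvd_of_pow_eq_one h)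
    omega
  by_cases h2 : (2 : F) = 0
  · have h1 := one_add_ne (H := H) ho
    have hth := trace_inv_one_add (H := H) hn h1
    obtain ⟨th, hthdef⟩ : ∃ th, th = (1 + m)⁻¹ := ⟨_, rfl⟩
    rw [← hthdef] at hth
    have hsth : H.σ th = m / (1 + m) := by
      have hh : H.σ th = 1 - th := by linear_combination hth
      rw [hh, hthdef]; field_simp; ring
    have hneg : ∀ x : F, -x = x := fun x => by linear_combination (-x) * h2
    have hN : th * H.σ th ≠ 0 := by rw [hsth, hthdef]; simp [hm0, h1]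
    refine main th (th * H.σ th)⁻¹ ?_ hth (fun D K hD hU _ => ⟨1, ?_, ?_⟩) fun S hS => ?_
    · rw [hneg, map_inv₀, H.conj.norm_mem]
    · have h := D.U_SG hU
      refine (h.mul h).congr rfl ?_ ?_
      · rw [show -D.P.d + -D.P.d = (-(2 : F)) • D.P.d by module, h2, neg_zero, zero_smul]
      · rw [H.neg_left, H.neg_right, D.P.hdd]; linear_combination (-D.th - 1) * h2
    · rw [mul_one, inv_mul_cancel₀ hN, hneg]
    · refine cubic_gen_even hq h2 hn ho S ?_
      convert hS using 1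
      rw [show (th * H.σ th)⁻¹ * th * H.σ th = 1 by rw [mul_assoc, inv_mul_cancel₀ hN], mul_one, hsth, hthdef]
      field_simp
  have hodd : Odd H.q := by
    rw [← Nat.not_even_iff_odd]
    intro he
    apply h2
    obtain ⟨j, hj⟩ := he
    have hc := FiniteField.cast_card_eq_zero F
    rw [← Nat.card_eq_fintype_card, H.card_field, hj] at hc
    push_cast at hc
    have h4 : (2 : F) * (j : F) = 0 := by
      have := pow_eq_zero_iff (n := 2) (by norm_num) |>.1 hc
      linear_combination this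
    by_contra h
    have hj0 : (j : F) = 0 := (mul_eq_zero.1 h4).resolve_left h
    obtain ⟨p, hp⟩ := CharP.exists F
    obtain ⟨n, hpr, hpn⟩ := FiniteField.card F p
    rw [← Nat.card_eq_fintype_card, H.card_field, hj] at hpn
    have h2p : 2 ∣ p ^ (n : ℕ) := ⟨2 * j * j, by rw [← hpn]; ring⟩
    obtain rfl := (Nat.prime_dvd_prime_iff_eq Nat.prime_two hpr).1 (Nat.prime_two.dvd_of_dvd_pow h2p)
    exact h (CharP.cast_eq_zero F 2)
  by_cases h5 : H.q = 5
  · obtain ⟨z, hz⟩ : ∃ z, z = m ^ 2 := ⟨_, rfl⟩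
    have hm6 : m ^ 6 = 1 := by rw [show 6 = orderOf m by omega]; exact pow_orderOf_eq_one m
    have hz1 : z ≠ 1 := hz ▸ hord 2 (by norm_num) (by omega)
    have hz3 : z ^ 3 = 1 := by rw [hz, ← pow_mul]; exact hm6
    have hz0 : z ≠ 0 := hz ▸ pow_ne_zero 2 hm0
    have hzz : z ^ 2 + z + 1 = 0 :=
      (mul_eq_zero.1 (by linear_combination hz3 : (z - 1) * (z ^ 2 + z + 1) = 0)).resolve_left (sub_ne_zero.2 hz1)
    have hsz : H.σ z = z ^ 2 := by
      rw [hz, map_pow, hs, inv_pow]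
      exact inv_eq_of_mul_eq_one_right (by linear_combination hm6)
    have h55 : (5 : F) = 0 := by
      have hc := FiniteField.cast_card_eq_zero F
      rw [← Nat.card_eq_fintype_card, H.card_field, h5] at hc
      push_cast at hc
      exact pow_eq_zero_iff (n := 2) (by norm_num) |>.1 (show (5 : F) ^ 2 = 0 by linear_combination hc)
    obtain ⟨t, ht⟩ : ∃ t, t = z - z ^ 2 := ⟨_, rfl⟩
    have ht2 : t ^ 2 = 2 := by rw [ht]; linear_combination (z ^ 2 - 3 * z + 3) * hzz - h55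
    have hσt : H.σ t = -t := by rw [ht, map_sub, map_pow, hsz]; linear_combination (-z) * hz3
    have h20 := h2
    refine main (-z) t hσt ?_ (fun D K _ _ h => ⟨t + t, D.long_mul h h, ?_⟩) fun S hS => ?_
    · rw [map_neg, hsz]; linear_combination -hzz
    · rw [map_neg, hsz]; linear_combination (2 * t ^ 2) * hz3 + 2 * ht2 + h55
    · by_contra hS'
      have ht0 : t ≠ 0 := by
        intro h0; rw [h0] at ht2; apply h20; linear_combination -ht2
      have hmem : t ∈ S := by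
        have hh : H.σ (-z) * H.σ (-z) / (-z * (t * -z * H.σ (-z))) = -t⁻¹ := by
          rw [map_neg, hsz]; field_simp
        rw [hh] at hS
        simpa using S.inv_mem (S.neg_mem hS)
      obtain ⟨d, hd2, hc, hr⟩ := card_proper S hS'
      have hp := pow_card_sub_one hmem ht0
      rw [H.card_field, h5] at hc
      have hle : Nat.card S ≤ 5 :=
        (Nat.pow_le_pow_iff_left (n := 2) (by norm_num)).1 (hc ▸ Nat.pow_le_pow_right (by omega) hd2)
      have hne : t ≠ -t := fun h => ht0 ((mul_eq_zero.1 (show (2 : F) * t = 0 by linear_combination h)).resolve_left h20)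
      have h1 : t ≠ 1 := fun h => by
        rw [h, map_one] at hσt; exact hne (by rw [h]; exact hσt)
      have h3 : t ^ 3 ≠ 1 := fun h => by
        have : H.σ (t ^ 3) = 1 := by rw [h, map_one]
        rw [map_pow, hσt] at this
        apply h20; linear_combination -this - h
      have h11 : (1 : F) ≠ 0 := one_ne_zero
      generalize Nat.card S = r at hp hle hr
      interval_cases r
      · exact h1 (by simpa using hp)
      · have hp2 : t ^ 2 = 1 := hp
        exact h11 (by linear_combination hp2 - ht2)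
      · exact h3 (by simpa using hp)
      · have hp4 : t ^ 4 = 1 := by simpa using hp
        have h30 : (3 : F) = 0 := by linear_combination hp4 - (t ^ 2 + 2) * ht2
        exact h20 (by linear_combination h55 - h30)
  have hm2 : m ^ 2 ≠ 1 := hord 2 (by norm_num) (by omega)
  obtain ⟨th, hth⟩ : ∃ th, th = m ^ 2 / (m ^ 2 - 1) := ⟨_, rfl⟩
  have hd0 : m ^ 2 - 1 ≠ 0 := sub_ne_zero.2 hm2
  have hd0' : 1 - m ^ 2 ≠ 0 := sub_ne_zero.2 hm2.symm
  have hsth : H.σ th = 1 / (1 - m ^ 2) := by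
    rw [hth, map_div₀, map_sub, map_pow, map_one, hs]
    field_simp
  have htr : th + H.σ th = 1 := by rw [hsth, hth]; field_simp; ring
  refine main th (m⁻¹ - m) ?_ htr (fun D K _ _ h => ⟨_, h, ?_⟩) fun S hS => ?_
  · rw [map_sub, map_inv₀, hs, inv_inv]; ring
  · rw [hsth, hth]; field_simp; ring
  · by_contra hS'
    have ht0 : m⁻¹ - m ≠ 0 := fun h => hm2 (by field_simp at h; linear_combination -h)
    have hmem : m ^ 3 ∈ S := by
      have hh : H.σ th * H.σ th / (th * ((m⁻¹ - m) * th * H.σ th)) = (m ^ 3)⁻¹ := by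
        rw [hsth, hth]; field_simp; ring
      rw [hh] at hS
      simpa using S.inv_mem hS
    obtain ⟨d, hd2, hc, -⟩ := card_proper S hS'
    rw [H.card_field] at hc
    refine arith_odd hodd h5 hq hd2 hc ?_
    rw [← ho]
    exact orderOf_dvd_of_pow_eq_one (by rw [pow_mul]; exact pow_card_sub_one hmem (pow_ne_zero 3 hm0))

end Cfsg.Lib.SUThreeUnip
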