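import Cfsg.Agent.Known.SUThreeUnip.Gen

/-! # Field generators and the first root element -/

set_option autoImplicit false
set_option linter.style.haveILetI false

namespace Cfsg.Lib.SUThreeUnip

open Cfsg.Lib.Classical Cfsg.Lib.Classical.HermSpace

universe u v

variable {F : Type u} [Field F] [Finite F] {V : Type v} [AddCommGroup V] [Module F V] [FiniteDimensional F V]
variable {H : HermSpace F V} {l : ℕ}

/-- A generator of the group of norm one elements. -/
theorem exists_normOne_gen (H : HermSpace F V) : ∃ ζ : F, ζ * H.σ ζ = 1 ∧ orderOf ζ = H.q + 1 := by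
  obtain ⟨g, hg⟩ := IsCyclic.exists_generator (α := (normUnits H.σ).ker)
  refine ⟨((g : Fˣ) : F), congrArg Units.val (MonoidHom.mem_ker.mp g.2), ?_⟩
  rw [orderOf_units, Subgroup.orderOf_coe, orderOf_eq_card_of_forall_mem_zpowers hg]
  exact H.conj.card_norm_ker

theorem pow_card_sub_one {K : Subfield F} {x : F} (hx : x ∈ K) (h0 : x ≠ 0) : x ^ (Nat.card K - 1) = 1 := by
  have := Fintype.ofFinite K
  have h := FiniteField.pow_card_sub_one_eq_one (⟨x, hx⟩ : K) (fun e => h0 (congrArg Subtype.val e))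
  rw [Nat.card_eq_fintype_card]
  exact congrArg Subtype.val h

/-- The size of a proper subfield. -/
theorem card_proper (K : Subfield F) (hK : K ≠ ⊤) :
    ∃ d, 2 ≤ d ∧ Nat.card F = Nat.card K ^ d ∧ 2 ≤ Nat.card K := by
  refine ⟨Module.finrank K F, ?_, Module.natCard_eq_pow_finrank, Finite.one_lt_card⟩
  by_contra hd
  apply hK
  have h1 : Nat.card F ≤ Nat.card K := by
    rw [Module.natCard_eq_pow_finrank (K := K) (V := F)]
    calc Nat.card K ^ Module.finrank K F ≤ Nat.card K ^ 1 :=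
          Nat.pow_le_pow_right Nat.card_pos (by omega)
      _ = _ := pow_one _
  rw [eq_top_iff]
  intro x _
  obtain ⟨y, rfl⟩ := (Nat.bijective_iff_injective_and_card (Subtype.val : K → F)).2
    ⟨Subtype.val_injective, le_antisymm (Nat.card_le_card_of_injective _ Subtype.val_injective) h1⟩ |>.2 x
  exact y.2

theorem subfield_eq_top_of_normOne {K : Subfield F} {ζ : F} (hn : ζ * H.σ ζ = 1) (ho : orderOf ζ = H.q + 1)
    (hζ : ζ ∈ K) : K = ⊤ := by
  by_contra hK
  obtain ⟨d, hd, hc, hr⟩ := card_proper K hK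
  have hle := Nat.le_of_dvd (by omega)
    (orderOf_dvd_of_pow_eq_one (pow_card_sub_one hζ (left_ne_zero_of_mul_eq_one hn)))
  rw [ho] at hle
  rw [H.card_field] at hc
  have h2 : Nat.card K ^ 2 ≤ H.q ^ 2 := hc ▸ Nat.pow_le_pow_right (by omega) hd
  have := (Nat.pow_le_pow_iff_left (by norm_num)).1 h2
  omega

/-- The subfield of multipliers of an additive subgroup. -/
def stabField (A : AddSubgroup F) : Subfield F where
  carrier := {x | ∀ a ∈ A, x * a ∈ A}
  mul_mem' {x y} hx hy a ha := by rw [mul_assoc]; exact hx _ (hy a ha)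
  one_mem' a ha := by rwa [one_mul]
  add_mem' {x y} hx hy a ha := by rw [add_mul]; exact A.add_mem (hx a ha) (hy a ha)
  zero_mem' a ha := by rw [zero_mul]; exact A.zero_mem
  neg_mem' {x} hx a ha := by rw [neg_mul]; exact A.neg_mem (hx a ha)
  inv_mem' x hx := by
    have hp : ∀ n : ℕ, ∀ a ∈ A, x ^ n * a ∈ A := fun n => by
      induction n with
      | zero => intro a ha; rwa [pow_zero, one_mul]
      | succ n ih => intro a ha; rw [pow_succ, mul_assoc]; exact ih _ (hx a ha)
    rcases eq_or_ne x 0 with rfl | h0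
    · rw [inv_zero]; exact fun a ha => by rw [zero_mul]; exact A.zero_mem
    · have := Fintype.ofFinite F
      have h2 : 2 ≤ Fintype.card F := Fintype.one_lt_card
      have e : x⁻¹ = x ^ (Fintype.card F - 2) := by
        refine inv_eq_of_mul_eq_one_right ?_
        rw [← pow_succ', show Fintype.card F - 2 + 1 = Fintype.card F - 1 by omega,
          FiniteField.pow_card_sub_one_eq_one x h0]
      rw [e]; exact hp _

theorem addSubgroup_eq_top {A : AddSubgroup F} (h : stabField A = ⊤) (h1 : (1 : F) ∈ A) : A = ⊤ := by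
  rw [eq_top_iff]
  intro x _
  have hx : x ∈ stabField A := by rw [h]; exact Subfield.mem_top x
  simpa using hx 1 h1

theorem q_ge_two (H : HermSpace F V) : 2 ≤ H.q := H.two_le_q

theorem one_add_ne {ζ : F} (ho : orderOf ζ = H.q + 1) : 1 + ζ ≠ 0 := by
  intro h
  have h2 : ζ ^ 2 = 1 := by linear_combination (ζ - 1) * h
  have := Nat.le_of_dvd (by omega) (orderOf_dvd_of_pow_eq_one h2)
  have := H.two_le_q
  omega

theorem trace_inv_one_add {ζ : F} (hn : ζ * H.σ ζ = 1) (h : 1 + ζ ≠ 0) :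
    (1 + ζ)⁻¹ + H.σ (1 + ζ)⁻¹ = 1 := by
  have h' : 1 + H.σ ζ ≠ 0 := by
    rw [← map_one H.σ, ← map_add]; exact (map_ne_zero _).2 h
  rw [map_inv₀, map_add, map_one]
  field_simp
  linear_combination -hn

/-- A trace one generator of the field. -/
theorem exists_th (H : HermSpace F V) : ∃ th : F, th + H.σ th = 1 ∧
    ∀ A : AddSubgroup F, (1 : F) ∈ A → (∀ x ∈ A, th * x ∈ A) → A = ⊤ := by
  obtain ⟨ζ, hn, ho⟩ := exists_normOne_gen H
  refine ⟨(1 + ζ)⁻¹, trace_inv_one_add hn (one_add_ne ho), fun A h1 hA => addSubgroup_eq_top ?_ h1⟩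
  refine subfield_eq_top_of_normOne hn ho ?_
  have h : (1 + ζ) ∈ stabField A := by
    rw [← inv_inv (1 + ζ)]; exact (stabField A).inv_mem hA
  simpa using (stabField A).sub_mem h (stabField A).one_mem

namespace Data

variable (D : Data H l)

/-- The element moving the short root element along the line of `e 0`. -/
noncomputable def tw : H.SIsom :=
  sgEl H (b := D.P.e 0) (w := D.P.d) (a := -D.th) (D.P.hee 0 0) (D.P.hde 0)
    (by rw [D.P.hdd, map_neg, ← neg_add, D.hth])

theorem tw_sEl (hl : 1 ≤ l) : D.tw * D.sEl * D.tw⁻¹ =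
    sgEl H (b := D.P.e l) (w := D.P.e 0) (a := 0) (D.P.hee l l) (D.P.hee 0 l)
      (by simp [D.P.hee]) * D.sEl := by
  rw [sEl, sgEl_conj]
  refine H.sisom_ext fun x => ?_
  rw [H.smul_mul_apply, sgEl_apply, sgEl_apply, sgEl_apply, tw, sgEl_apply, sgEl_apply]
  simp [H.add_right, H.smul_right, H.neg_left, H.neg_right, H.add_left, H.smul_left, D.P.hee, D.P.hed,
    D.P.hde, D.P.hdd]
  module

theorem tw_aEl (k : ℕ) : D.tw * D.aEl k * D.tw⁻¹ = D.aEl k := by
  rw [aEl, sgEl_conj]
  refine sgEl_congr _ _ _ _ _ _ ?_ ?_ rfl <;> rw [tw, sgEl_apply] <;>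
    simp [H.neg_left, D.P.hee, D.P.hed, D.P.hfd, D.P.hfe_ne]

theorem tw_lev : ∀ k, D.tw * D.lev k * D.tw⁻¹ = D.lev k
  | 0 => by simp [lev]
  | k + 1 => by
    rw [lev, ← conj_mul, D.tw_aEl, tw_lev k]

theorem ss_one (hl : 1 ≤ l) {K : Subgroup H.SIsom} (hU : D.U ∈ K) (hg : D.tw * D.U * D.tw⁻¹ ∈ K) :
    D.SS K 1 := by
  have h0 : SG K (D.P.e l) (D.P.e 0) 0 := by
    refine ⟨D.P.hee l l, D.P.hee 0 l, by simp [D.P.hee], ?_⟩
    rw [U, ← conj_mul, D.tw_sEl hl, D.tw_lev, mul_assoc, ← U] at hg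
    exact (Subgroup.mul_mem_cancel_right _ hU).1 hg
  have hd : ∀ i j, j + i = l → 1 ≤ j → SG K (D.P.e 0) (-D.P.e j) 0 := by
    intro i
    induction i with
    | zero => intro j hj _; obtain rfl : j = l := by omega
              exact h0.symm0
    | succ i ih =>
      intro j hj hj1
      have h := ih (j + 1) (by omega) (by omega)
      have hx : D.U.1.1 (-D.P.e (j + 1)) - -D.P.e (j + 1) = -D.P.e j := by
        rw [map_neg, D.U_e_succ (by omega)]; abel
      refine (h.diff hU D.U_e_zero).congr rfl hx ?_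
      rw [hx]; simp [H.neg_left, H.neg_right, D.P.hee]
  have h1 := (hd (l - 1) 1 (by omega) le_rfl).symm0
  have h2 : SG K ((-1 : F) • D.P.e 1) (-D.P.e 0) 0 := h1.congr (by module) rfl rfl
  exact (SG.smul_iff_vec (-1) (by simp [H.neg_left, D.P.hee]) (D.P.hee 1 1) h2).congr rfl (by simp) (by simp)

end Data

/-- Three conjugates generate in dimension at least five. -/
theorem exists_three_big (H : HermSpace F V) {l : ℕ} (hl : 1 ≤ l) (hd : Module.finrank F V = 2 * l + 3) :
    ∃ (D : Data H l) (g h : H.SIsom),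
      Subgroup.closure ({D.U, g * D.U * g⁻¹, h * D.U * h⁻¹} : Set H.SIsom) = ⊤ := by
  obtain ⟨th, hth, hgen⟩ := exists_th H
  obtain ⟨D, rfl⟩ := exists_data H hd hth
  refine ⟨D, D.tw, D.M, ?_⟩
  have hU : D.U ∈ Subgroup.closure ({D.U, D.tw * D.U * D.tw⁻¹, D.M * D.U * D.M⁻¹} : Set H.SIsom) :=
    Subgroup.subset_closure (by simp)
  have hg : D.tw * D.U * D.tw⁻¹ ∈
      Subgroup.closure ({D.U, D.tw * D.U * D.tw⁻¹, D.M * D.U * D.M⁻¹} : Set H.SIsom) :=
    Subgroup.subset_closure (by simp)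
  have hW : D.W ∈ Subgroup.closure ({D.U, D.tw * D.U * D.tw⁻¹, D.M * D.U * D.M⁻¹} : Set H.SIsom) :=
    Subgroup.subset_closure (by simp [Data.W])
  exact D.eq_top_big hl hU hW (D.ss_one hl hU hg) hgen

end Cfsg.Lib.SUThreeUnip
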